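import Groth.Agent.Abvar.Seesaw.Descend
import Groth.Agent.PicAux.Cocycle
import Mathlib.AlgebraicGeometry.Morphisms.Finite

/-!
# The seesaw principle over a field
-/

universe u

open CategoryTheory Limits MonoidalCategory CartesianMonoidalCategory AlgebraicGeometry
  TopologicalSpace
open Groth.PicAux (res res_res res_smul res_self resX resX_resX resX_self Gen pullSec pullSec_smul
  res_pullSec)

namespace Groth.Abvar.Seesaw

section Base

variable {P B : Scheme.{u}} (π : P ⟶ B)

/-- A module trivial locally on the base comes from the base. -/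
theorem exists_base_of_local (hπ : ∀ V : B.Opens, Function.Bijective (π.app V)) {L : P.Modules}
    (hloc : ∀ y : B, ∃ V : B.Opens, y ∈ V ∧ ∃ s : Γ(L, π ⁻¹ᵁ V), Gen L _ s) :
    ∃ N : B.Modules, PicF.IsInvertible N ∧
      Nonempty ((Scheme.Modules.pullback π).obj N ≅ L) := by
  choose V hV s hs using hloc
  have hU : iSup V = ⊤ := eq_top_iff.2 fun y _ => Opens.mem_iSup.2 ⟨y, hV y⟩
  have hd : ∀ (i j : B) (W : B.Opens) (hW : W ≤ V i ⊓ V j), ∃ c : Γ(B, W),
      IsUnit c ∧ res L (fun z hz => (hW hz).1) (s i) =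
        π.app W c • res L (fun z hz => (hW hz).2 : π ⁻¹ᵁ W ≤ π ⁻¹ᵁ V j) (s j) := by
    intro i j W hW
    obtain ⟨u, hu⟩ := ((hs j).res (fun z hz => (hW hz).2 : π ⁻¹ᵁ W ≤ π ⁻¹ᵁ V j)).exists_unit
      ((hs i).res (fun z hz => (hW hz).1 : π ⁻¹ᵁ W ≤ π ⁻¹ᵁ V i))
    obtain ⟨c, hc⟩ := (hπ W).2 (u : Γ(P, π ⁻¹ᵁ W))
    obtain ⟨d, hd⟩ := (hπ W).2 (↑u⁻¹ : Γ(P, π ⁻¹ᵁ W))
    refine ⟨c, IsUnit.of_mul_eq_one d ((hπ W).1 ?_), by rw [hc]; exact hu⟩
    rw [map_mul, hc, hd, map_one, u.mul_inv]
  choose η hηu hη using fun i j => hd i j (V i ⊓ V j) le_rfl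
  have huniq : ∀ (j : B) (W : B.Opens) (hW : W ≤ V j) (a b : Γ(B, W)),
      π.app W a • res L (π.preimage_mono hW) (s j) = π.app W b • res L (π.preimage_mono hW) (s j) →
      a = b := fun j W hW a b h => (hπ W).1 ((hs j).smul_inj _ h)
  have hres : ∀ {i j : B} {W : B.Opens} (hW : W ≤ V i ⊓ V j),
      res L (fun z hz => (hW hz).1) (s i) = π.app W (resX B hW (η i j)) •
        res L (fun z hz => (hW hz).2 : π ⁻¹ᵁ W ≤ π ⁻¹ᵁ V j) (s j) := by
    intro i j W hW
    have h := congrArg (res L (π.preimage_mono hW)) (hη i j)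
    rw [res_smul, res_res, res_res] at h
    rw [h]
    congr 1
    exact congr($((π.naturality (homOfLE hW).op).symm) (η i j))
  obtain ⟨N, t, ht, hN, hrel⟩ := PicAux.exists_module_of_cocycle V η hU hηu fun i j k => by
    have h1 := hres (i := i) (j := k) (inf_le_inf_right (V k) inf_le_left :
      V i ⊓ V j ⊓ V k ≤ V i ⊓ V k)
    have h2 := hres (i := i) (j := j) (inf_le_left : V i ⊓ V j ⊓ V k ≤ V i ⊓ V j)
    have h3 := hres (i := j) (j := k) (inf_le_inf_right (V k) inf_le_right :
      V i ⊓ V j ⊓ V k ≤ V j ⊓ V k)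
    refine huniq k _ inf_le_right _ _ ?_
    rw [map_mul, mul_smul]
    refine (h1.symm.trans h2).trans ?_
    exact congrArg _ h3
  refine ⟨N, hN, ?_⟩
  obtain ⟨e, -⟩ := PicAux.exists_iso_of_gen (U := fun i => π ⁻¹ᵁ V i)
    (eq_top_iff.2 fun x _ => Opens.mem_iSup.2 ⟨π x, hV (π x)⟩)
    (fun i => pullSec π N (t i)) (fun i => (ht i).pull π) s hs fun i j r hr => by
      have h1 := congrArg (pullSec π N) (hrel i j)
      rw [pullSec_smul, ← res_pullSec, ← res_pullSec] at h1
      have h2 : r = π.app _ (η i j) :=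
        ((ht j).pull π).smul_inj (π.preimage_mono (inf_le_right : V i ⊓ V j ≤ V j))
          (hr.symm.trans h1)
      rw [h2]
      exact hη i j
  exact ⟨e⟩

end Base

section Field

variable {k : Type u} [Field k] {X Y : Over (Spec (CommRingCat.of k))}
  [IsProper X.hom] [GeometricallyIntegral X.hom]
  [LocallyOfFiniteType Y.hom] [GeometricallyReduced Y.hom]

/-- A module trivial on the fibres over closed points is trivial locally on the base, and the
direct image of the structure sheaf is the structure sheaf. -/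
theorem exists_gen_of_closed {L : (X ⊗ Y).left.Modules} (hL : PicF.IsInvertible L)
    (h : ∀ y : Y.left, IsClosed ({y} : Set Y.left) → FibTriv (snd X Y).left L y) :
    (∀ y : Y.left, ∃ V : Y.left.Opens, y ∈ V ∧ ∃ s, Gen L ((snd X Y).left ⁻¹ᵁ V) s) ∧
      ∀ V, Function.Bijective ((snd X Y).left.app V) := by
  have sq : IsPullback (fst X Y).left (snd X Y).left X.hom Y.hom := IsPullback.of_hasPullback _ _
  let π := (snd X Y).left
  have : IsProper π := MorphismProperty.of_isPullback sq ‹_›
  have : Flat π := MorphismProperty.of_isPullback sq (inferInstance : Flat X.hom)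
  have : GeometricallyIntegral π := MorphismProperty.of_isPullback sq ‹_›
  have : IsLocallyNoetherian Y.left := LocallyOfFiniteType.isLocallyNoetherian Y.hom
  have : IsReduced Y.left :=
    GeometricallyReduced.isReduced_of_flat_of_isLocallyNoetherian Y.hom
  have : JacobsonSpace Y.left := LocallyOfFiniteType.jacobsonSpace Y.hom
  have hall : ∀ y, FibTriv π L y := fun y =>
    (isClosed_fibTriv_of_integral π hL).closure_subset_iff.2
      (fun z (hz : z ∈ closedPoints Y.left) => h z hz)
      (closure_closedPoints (X := Y.left) ▸ Set.mem_univ y)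
  refine ⟨exists_gen_of_fibTriv π hL (h0Const_of_integral π) hall, fun V => ?_⟩
  have := geometricallyConnected_of_integral π
  have := locallyOfFinitePresentation_of_isNoetherian π
  exact GrpschAbsch.H0General.app_bijective π V

/-- A module trivial on closed fibres and on a section is trivial. -/
theorem trivial_seesaw (x₀ : 𝟙_ (Over (Spec (CommRingCat.of k))) ⟶ X)
    {L : (X ⊗ Y).left.Modules} (hL : PicF.IsInvertible L)
    (h : ∀ y : Y.left, IsClosed ({y} : Set Y.left) → FibTriv (snd X Y).left L y)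
    (hx : Nonempty ((Scheme.Modules.pullback (lift (toUnit Y ≫ x₀) (𝟙 Y)).left).obj L ≅
      Coh.structureModule Y.left)) :
    Nonempty (L ≅ Coh.structureModule (X ⊗ Y).left) :=
  trivial_of_local (snd X Y).left (congrArg Over.Hom.left (lift_snd (toUnit Y ≫ x₀) (𝟙 Y)))
    (exists_gen_of_closed hL h).2 (exists_gen_of_closed hL h).1 hx

/-- A module trivial on closed fibres comes from the base. -/
theorem exists_base_seesaw {L : (X ⊗ Y).left.Modules} (hL : PicF.IsInvertible L)
    (h : ∀ y : Y.left, IsClosed ({y} : Set Y.left) → FibTriv (snd X Y).left L y) :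
    ∃ N : Y.left.Modules, PicF.IsInvertible N ∧
      Nonempty ((Scheme.Modules.pullback (snd X Y).left).obj N ≅ L) :=
  exists_base_of_local (snd X Y).left (exists_gen_of_closed hL h).2 (exists_gen_of_closed hL h).1

end Field

end Groth.Abvar.Seesaw
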