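import Groth.Agent.Abvar.Seesaw.Global
import Groth.Agent.Abvar.Cube.InfGeom
import Groth.Agent.HensPair.SectionsBaseChange

/-!
# Constant functions and trivial modules along field extensions
-/

universe u

open CategoryTheory Limits AlgebraicGeometry TopologicalSpace
open scoped TensorProduct
open Groth.PicAux (res res_res res_ext res_glue Gen pullSec res_pullSec)

namespace Groth.Abvar.Seesaw

variable {K K' : Type u} [Field K] [Field K'] [Algebra K K'] {Q Q' : Scheme.{u}}
  {g : Q' ⟶ Q} {q : Q ⟶ Spec (CommRingCat.of K)} {q' : Q' ⟶ Spec (CommRingCat.of K')}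

/-- Constant functions ascend along field extensions. -/
theorem toGlobal_bijective_bc [QuasiCompact q] [QuasiSeparated q]
    (H : IsPullback g q' q (Spec.map (CommRingCat.ofHom (algebraMap K K'))))
    (h : Function.Bijective (Coh.toGlobal q)) : Function.Bijective (Coh.toGlobal q') := by
  have : CompactSpace Q := QuasiCompact.compactSpace_of_compactSpace q
  have : QuasiSeparatedSpace Q := quasiSeparatedSpace_of_quasiSeparated q
  have : IsIso ((Scheme.ΓSpecIso (CommRingCat.of K)).inv ≫ q.appTop) :=
    (ConcreteCategory.isIso_iff_bijective _).2 h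
  have : IsIso q.appTop := IsIso.of_isIso_comp_left (Scheme.ΓSpecIso (CommRingCat.of K)).inv _
  exact HensPair.appTop_bijective_of_isIso H

omit [Algebra K K'] in
/-- Constant functions ascend along homomorphisms of fields. -/
theorem toGlobal_bijective_map [QuasiCompact q] [QuasiSeparated q] (φ : K →+* K')
    (H : IsPullback g q' q (Spec.map (CommRingCat.ofHom φ)))
    (h : Function.Bijective (Coh.toGlobal q)) : Function.Bijective (Coh.toGlobal q') :=
  letI := φ.toAlgebra
  toGlobal_bijective_bc H h

/-- Constant functions descend along field extensions. -/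
theorem toGlobal_bijective_of_bc [QuasiCompact q] [QuasiSeparated q]
    (H : IsPullback g q' q (Spec.map (CommRingCat.ofHom (algebraMap K K'))))
    (h : Function.Bijective (Coh.toGlobal q')) : Function.Bijective (Coh.toGlobal q) := by
  have : CompactSpace Q := QuasiCompact.compactSpace_of_compactSpace q
  have : QuasiSeparatedSpace Q := quasiSeparatedSpace_of_quasiSeparated q
  have hne : Nonempty Q := ⟨g (nonempty_of_toGlobal_bijective h).some⟩
  have hcompat : ∀ a, g.appTop (Coh.toGlobal q a) = Coh.toGlobal q' (algebraMap K K' a) := fun a =>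
    (toGlobal_comp g q a).symm.trans ((congrArg (fun r => Coh.toGlobal r a) H.w).trans
      (toGlobal_specMap q' (CommRingCat.ofHom (algebraMap K K')) a))
  refine ⟨fun a a' haa => (algebraMap K K').injective (h.1 ?_), fun (f : Γ(Q, ⊤)) => ?_⟩
  · rw [← hcompat, ← hcompat, haa]
  obtain ⟨t, ht⟩ := h.2 (g.appTop f)
  letI : Algebra K Γ(Q, ⊤) := ((Scheme.ΓSpecIso (CommRingCat.of K)).inv ≫ q.appTop).hom.toAlgebra
  let j₁ : Γ(Q, ⊤) ⟶ CommRingCat.of (Γ(Q, ⊤) ⊗[K] K') :=
    CommRingCat.ofHom Algebra.TensorProduct.includeLeftRingHom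
  let j₂ : Γ(Spec (CommRingCat.of K'), ⊤) ⟶ CommRingCat.of (Γ(Q, ⊤) ⊗[K] K') :=
    (Scheme.ΓSpecIso (CommRingCat.of K')).hom ≫ CommRingCat.ofHom
      (Algebra.TensorProduct.includeRight : K' →ₐ[K] Γ(Q, ⊤) ⊗[K] K').toRingHom
  have hw : q.appTop ≫ j₁ =
      (Spec.map (CommRingCat.ofHom (algebraMap K K'))).appTop ≫ j₂ := by
    rw [← cancel_epi (Scheme.ΓSpecIso (CommRingCat.of K)).inv]
    refine CommRingCat.hom_ext (RingHom.ext fun r => ?_)
    show (algebraMap K Γ(Q, ⊤) r) ⊗ₜ[K] (1 : K') =
      (1 : Γ(Q, ⊤)) ⊗ₜ[K] (Scheme.ΓSpecIso (CommRingCat.of K')).hom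
        ((Spec.map (CommRingCat.ofHom (algebraMap K K'))).appTop
          ((Scheme.ΓSpecIso (CommRingCat.of K)).inv r))
    have hn : (Spec.map (CommRingCat.ofHom (algebraMap K K'))).appTop
        ((Scheme.ΓSpecIso (CommRingCat.of K)).inv r) =
        (Scheme.ΓSpecIso (CommRingCat.of K')).inv (algebraMap K K' r) :=
      congr($((Scheme.ΓSpecIso_inv_naturality (CommRingCat.ofHom (algebraMap K K'))).symm) r)
    rw [hn, ← CommRingCat.comp_apply, Iso.inv_hom_id, CommRingCat.id_apply,
      Algebra.algebraMap_eq_smul_one, Algebra.algebraMap_eq_smul_one, TensorProduct.smul_tmul]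
  have hP := HensPair.isPushout_appTop H
  have e := congrArg (hP.desc j₁ j₂ hw).hom ht
  rw [show (hP.desc j₁ j₂ hw).hom (g.appTop f) = f ⊗ₜ[K] (1 : K') from
    congr($(hP.inl_desc j₁ j₂ hw) f),
    show (hP.desc j₁ j₂ hw).hom (Coh.toGlobal q' t) = (1 : Γ(Q, ⊤)) ⊗ₜ[K] t from by
      refine (congr($(hP.inr_desc j₁ j₂ hw) ((Scheme.ΓSpecIso (CommRingCat.of K')).inv t))).trans ?_
      show (1 : Γ(Q, ⊤)) ⊗ₜ[K] (Scheme.ΓSpecIso (CommRingCat.of K')).hom
        ((Scheme.ΓSpecIso (CommRingCat.of K')).inv t) = _
      rw [← CommRingCat.comp_apply, Iso.inv_hom_id, CommRingCat.id_apply]] at e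
  obtain ⟨φ, hφ⟩ := LinearMap.exists_leftInverse_of_injective (Algebra.linearMap K K')
    (LinearMap.ker_eq_bot_of_injective (algebraMap K K').injective)
  have h1 : φ 1 = 1 := by simpa using congr($hφ 1)
  have e' := congrArg (fun z => TensorProduct.rid K Γ(Q, ⊤) (φ.lTensor _ z)) e
  simp only [LinearMap.lTensor_tmul, TensorProduct.rid_tmul, h1, one_smul] at e'
  exact ⟨φ t, ((Algebra.algebraMap_eq_smul_one _).trans e' :)⟩

/-- Triviality descends along field extensions when functions are constant. -/
theorem trivial_of_bc [IsSeparated q] [QuasiCompact q]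
    (H : IsPullback g q' q (Spec.map (CommRingCat.ofHom (algebraMap K K'))))
    (h0 : Function.Bijective (Coh.toGlobal q')) {L : Q.Modules} (hL : PicF.IsInvertible L)
    (h : Nonempty ((Scheme.Modules.pullback g).obj L ≅ Coh.structureModule Q')) :
    Nonempty (L ≅ Coh.structureModule Q) := by
  have : Q.IsSeparated := by
    rw [Scheme.isSeparated_iff, show terminal.from Q = q ≫ terminal.from _ from Subsingleton.elim _ _]
    infer_instance
  have : CompactSpace Q := QuasiCompact.compactSpace_of_compactSpace q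
  have := PicAux.isQCoh_of_isInvertible hL
  have hne : Nonempty Q' := nonempty_of_toGlobal_bijective h0
  letI : Q.Over (Spec (CommRingCat.of K)) := ⟨q⟩
  letI : Q'.Over (Spec (CommRingCat.of K')) := ⟨q'⟩
  have hsq : CohBase.IsBC (A := K) (A' := K') g := H
  have : Surjective g := by
    have : Surjective (Spec.map (CommRingCat.ofHom (algebraMap K K'))) :=
      ⟨fun p => ⟨(Classical.arbitrary (PrimeSpectrum K') :),
        Subsingleton.elim (α := PrimeSpectrum K) _ _⟩⟩
    exact MorphismProperty.of_isPullback H.flip ‹_›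
  obtain ⟨e, he⟩ := PicAux.nonempty_iso_structure_iff.1 h
  have hbase : ∀ p : Q, ∃ U : Q.Opens, IsAffineOpen U ∧ p ∈ U := fun p => by
    obtain ⟨_, ⟨U, hU, rfl⟩, hp, -⟩ :=
      Q.isBasis_affineOpens.exists_subset_of_mem_open (Set.mem_univ p) isOpen_univ
    exact ⟨U, hU, hp⟩
  choose U hU hpU using hbase
  choose z hz using fun p =>
    (CohBase.bcSec_bijective hsq L (hU p)).2 (res _ (le_top : g ⁻¹ᵁ U p ≤ ⊤) e)
  have hzc : ∀ p p', (CohBase.secRes K L (inf_le_left : U p ⊓ U p' ≤ U p)).rTensor K' (z p) =
      (CohBase.secRes K L (inf_le_right : U p ⊓ U p' ≤ U p')).rTensor K' (z p') := fun p p' => by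
    refine (CohBase.bcSec_bijective hsq L ((hU p).inf (hU p'))).1 ?_
    rw [← CohBase.bcSec_res, ← CohBase.bcSec_res, hz, hz]
    exact (res_res _ _ _).trans (res_res _ _ _).symm
  obtain ⟨w⟩ := hne
  let p₀ := g w
  have hz0 : z p₀ ≠ 0 := fun h0' => by
    have h1 := hz p₀
    rw [h0', map_zero] at h1
    have hg := he.res (le_top : g ⁻¹ᵁ U p₀ ≤ ⊤)
    rw [← h1] at hg
    have h2 := hg.smul_inj (le_refl _) (r := (1 : Γ(Q', g ⁻¹ᵁ U p₀))) (r' := 0) (by simp)
    have h3 := (Q'.toRingedSpace.mem_basicOpen (1 : Γ(Q', g ⁻¹ᵁ U p₀)) w (hpU p₀)).2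
      (by rw [map_one]; exact isUnit_one)
    rw [h2] at h3
    exact (Q'.basicOpen_zero _).le h3
  classical
  let b := Module.Basis.ofVectorSpace K K'
  obtain ⟨α, hα⟩ : ∃ α, (TensorProduct.equivFinsuppOfBasisRight b (z p₀)) α ≠ 0 := by
    by_contra hall
    push Not at hall
    exact hz0 ((TensorProduct.equivFinsuppOfBasisRight b).map_eq_zero_iff.1 (Finsupp.ext hall))
  let c : ∀ p, CohBase.secA K L (U p) := fun p =>
    TensorProduct.rid K _ ((b.coord α).lTensor _ (z p))
  have hc0 : c p₀ ≠ 0 := fun hc => hα (by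
    have hlin : ∀ y : CohBase.secA K L (U p₀) ⊗[K] K', TensorProduct.equivFinsuppOfBasisRight b y α =
        TensorProduct.rid K _ ((b.coord α).lTensor _ y) := fun y => by
      induction y using TensorProduct.induction_on with
      | zero => simp
      | tmul m x => simp
      | add y y' hy hy' => simp only [map_add, Finsupp.add_apply, hy, hy']
    exact (hlin (z p₀)).trans hc)
  obtain ⟨σ, hσ, -⟩ := res_glue (M := L) (U := ⊤) U (fun _ => le_top)
    (fun p _ => Opens.mem_iSup.2 ⟨p, hpU p⟩) (fun p => (c p : Γ(L, U p))) fun p p' => by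
      have h1 : ∀ {V W : Q.Opens} (hle : V ≤ W) (y : CohBase.secA K L W ⊗[K] K'),
          CohBase.secRes K L hle (TensorProduct.rid K _ ((b.coord α).lTensor _ y)) =
            TensorProduct.rid K _ ((b.coord α).lTensor _ ((CohBase.secRes K L hle).rTensor K' y)) := by
        intro V W hle y
        induction y using TensorProduct.induction_on with
        | zero => simp
        | tmul m x => simp
        | add y y' hy hy' => simp only [map_add, hy, hy']
      exact (h1 _ _).trans ((congrArg (fun y => TensorProduct.rid K _ ((b.coord α).lTensor _ y))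
        (hzc p p')).trans (h1 _ _).symm)
  let s := pullSec g L σ
  have hs : s ≠ 0 := fun hs0 => by
    have h1 : res _ (g.preimage_mono (le_top : U p₀ ≤ ⊤)) s = 0 := by rw [hs0]; exact map_zero _
    rw [res_pullSec g L (le_top : U p₀ ≤ ⊤), hσ p₀] at h1
    have h2 : CohBase.bcSec hsq L (U p₀) (c p₀ ⊗ₜ (1 : K')) = 0 := by
      rw [CohBase.bcSec_tmul, map_one, one_smul]
      exact h1
    rw [← map_zero (CohBase.bcSec hsq L (U p₀))] at h2
    obtain ⟨φ, hφ⟩ := LinearMap.exists_leftInverse_of_injective (Algebra.linearMap K K')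
      (LinearMap.ker_eq_bot_of_injective (algebraMap K K').injective)
    have h4 := congrArg (fun y => TensorProduct.rid K _ (φ.lTensor _ y))
      ((CohBase.bcSec_bijective hsq L (hU p₀)).1 h2)
    simp only [LinearMap.lTensor_tmul, TensorProduct.rid_tmul, map_zero] at h4
    rw [show φ 1 = 1 by simpa using congr($hφ 1), one_smul] at h4
    exact hc0 h4
  exact PicAux.nonempty_iso_structure_iff.2 ⟨σ, Cube.gen_of_pullSec g hL σ
    (gen_of_ne_zero h0 h hs)⟩

variable {P B : Scheme.{u}}

/-- Constant functions on the fibre over a field-valued point. -/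
theorem toGlobal_bijective_of_h0Const {π : P ⟶ B} [QuasiCompact π] [QuasiSeparated π]
    {L : Type u} [Field L] (b : Spec (CommRingCat.of L) ⟶ B) (y : B)
    (hy : b (IsLocalRing.closedPoint L) = y) (h : H0Const π y) {Q : Scheme.{u}} {g : Q ⟶ P}
    {q : Q ⟶ Spec (CommRingCat.of L)} (H : IsPullback g q π b) :
    Function.Bijective (Coh.toGlobal q) := by
  subst hy
  let d := B.descResidueField (Scheme.stalkClosedPointTo b)
  have hd : Spec.map d ≫ B.fromSpecResidueField _ = b :=
    Scheme.descResidueField_stalkClosedPointTo_fromSpecResidueField _ _ b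
  have sq := IsPullback.of_hasPullback π (B.fromSpecResidueField (b (IsLocalRing.closedPoint L)))
  let l := sq.lift g (q ≫ Spec.map d) (by rw [Category.assoc, hd]; exact H.w)
  have Hl : IsPullback l q (π.fiberToSpecResidueField _)
      (Spec.map d) :=
    IsPullback.of_right (by rw [sq.lift_fst]; exact (show IsPullback g q π
      (Spec.map d ≫ B.fromSpecResidueField _) from hd.symm ▸ H)) (sq.lift_snd _ _ _) sq
  have : QuasiCompact (π.fiberToSpecResidueField (b (IsLocalRing.closedPoint L))) :=
    MorphismProperty.of_isPullback sq ‹_›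
  have : QuasiSeparated (π.fiberToSpecResidueField (b (IsLocalRing.closedPoint L))) :=
    MorphismProperty.of_isPullback sq ‹_›
  exact @toGlobal_bijective_map (B.residueField (b (IsLocalRing.closedPoint L))) L _ _ _ _ _ _ _
    ‹QuasiCompact (π.fiberToSpecResidueField _)› ‹QuasiSeparated (π.fiberToSpecResidueField _)›
    d.hom Hl h

omit [Algebra K K'] in
/-- Constant functions descend along homomorphisms of fields. -/
theorem toGlobal_bijective_of_map [QuasiCompact q] [QuasiSeparated q] (φ : K →+* K')
    (H : IsPullback g q' q (Spec.map (CommRingCat.ofHom φ)))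
    (h : Function.Bijective (Coh.toGlobal q')) : Function.Bijective (Coh.toGlobal q) :=
  letI := φ.toAlgebra
  toGlobal_bijective_of_bc H h

omit [Algebra K K'] in
/-- Triviality descends along homomorphisms of fields when functions are constant. -/
theorem trivial_of_map [IsSeparated q] [QuasiCompact q] (φ : K →+* K')
    (H : IsPullback g q' q (Spec.map (CommRingCat.ofHom φ)))
    (h0 : Function.Bijective (Coh.toGlobal q')) {L : Q.Modules} (hL : PicF.IsInvertible L)
    (h : Nonempty ((Scheme.Modules.pullback g).obj L ≅ Coh.structureModule Q')) :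
    Nonempty (L ≅ Coh.structureModule Q) :=
  letI := φ.toAlgebra
  trivial_of_bc H h0 hL h

section point

variable {X' S' X S : Scheme.{u}} {p : X' ⟶ X} {π' : X' ⟶ S'} {π : X ⟶ S} {b : S' ⟶ S}
  (sq : IsPullback p π' π b) (y : S')

include sq in
/-- The fibre over a point is a base change of the fibre over its image. -/
theorem exists_fibre_map : ∃ m : π'.fiber y ⟶ π.fiber (b y),
    IsPullback m (π'.fiberToSpecResidueField y) (π.fiberToSpecResidueField (b y))
      (Spec.map (b.residueFieldMap y)) ∧ m ≫ π.fiberι (b y) = π'.fiberι y ≫ p :=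
  ⟨_, isPullback_fiberToSpecResidueField_of_isPullback sq y, pullback.lift_fst _ _ _⟩

include sq in
/-- Constant functions on a fibre do not depend on the base. -/
theorem h0Const_iff_of_isPullback [QuasiCompact π] [QuasiSeparated π] :
    H0Const π' y ↔ H0Const π (b y) := by
  obtain ⟨m, sqy, -⟩ := exists_fibre_map sq y
  have sqF := IsPullback.of_hasPullback π (S.fromSpecResidueField (b y))
  have : QuasiCompact (π.fiberToSpecResidueField (b y)) := MorphismProperty.of_isPullback sqF ‹_›
  have : QuasiSeparated (π.fiberToSpecResidueField (b y)) := MorphismProperty.of_isPullback sqF ‹_›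
  exact ⟨fun h => @toGlobal_bijective_of_map (S.residueField (b y)) (S'.residueField y) _ _ _ _ _ _ _
      ‹QuasiCompact (π.fiberToSpecResidueField _)› ‹QuasiSeparated (π.fiberToSpecResidueField _)›
      (b.residueFieldMap y).hom sqy h,
    fun h => @toGlobal_bijective_map (S.residueField (b y)) (S'.residueField y) _ _ _ _ _ _ _
      ‹QuasiCompact (π.fiberToSpecResidueField _)› ‹QuasiSeparated (π.fiberToSpecResidueField _)›
      (b.residueFieldMap y).hom sqy h⟩

include sq in
/-- Triviality on a fibre passes to base changes. -/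
theorem fibTriv_of_isPullback {L : X.Modules} (h : FibTriv π L (b y)) :
    FibTriv π' ((Scheme.Modules.pullback p).obj L) y := by
  obtain ⟨m, -, hm⟩ := exists_fibre_map sq y
  obtain ⟨i⟩ := trivial_of_factor (g' := π'.fiberι y ≫ p) m hm h
  exact ⟨(Scheme.Modules.pullbackComp (π'.fiberι y) p).app L ≪≫ i⟩

include sq in
/-- Triviality on a fibre descends from base changes when functions are constant. -/
theorem fibTriv_of_bc [QuasiCompact π] [IsSeparated π] {L : X.Modules} (hL : PicF.IsInvertible L)
    (h0 : H0Const π' y) (h : FibTriv π' ((Scheme.Modules.pullback p).obj L) y) :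
    FibTriv π L (b y) := by
  obtain ⟨m, sqy, hm⟩ := exists_fibre_map sq y
  have sqF := IsPullback.of_hasPullback π (S.fromSpecResidueField (b y))
  have : QuasiCompact (π.fiberToSpecResidueField (b y)) := MorphismProperty.of_isPullback sqF ‹_›
  have : IsSeparated (π.fiberToSpecResidueField (b y)) := MorphismProperty.of_isPullback sqF ‹_›
  obtain ⟨i⟩ := h
  exact @trivial_of_map (S.residueField (b y)) (S'.residueField y) _ _ _ _ _ _ _
    ‹IsSeparated (π.fiberToSpecResidueField _)› ‹QuasiCompact (π.fiberToSpecResidueField _)›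
    (b.residueFieldMap y).hom sqy h0 _ (PicAux.isInvertible_pullback (π.fiberι (b y)) hL)
    ⟨(Scheme.Modules.pullbackComp m (π.fiberι (b y))).app L ≪≫
      (Scheme.Modules.pullbackCongr hm).app L ≪≫
      ((Scheme.Modules.pullbackComp (π'.fiberι y) p).app L).symm ≪≫ i⟩

end point

end Groth.Abvar.Seesaw
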