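import Groth.Agent.Abvar.Seesaw.GeomInt

/-!
# Trivial modules on proper integral schemes, and descent along field extensions
-/

universe u

open CategoryTheory Limits AlgebraicGeometry TopologicalSpace
open Groth.PicAux (res Gen pullSec gsec homOfSection)

namespace Groth.Abvar.Seesaw

/-- Nonzero sections of mutually inverse modules on an integral scheme with only constant functions
force triviality. -/
theorem trivial_of_sections {V : Scheme.{u}} [IsIntegral V] {K : Type u} [Field K]
    {q : V ⟶ Spec (CommRingCat.of K)} (h0 : Function.Bijective (Coh.toGlobal q)) {L N : V.Modules}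
    (hL : PicF.IsInvertible L) (hN : PicF.IsInvertible N)
    (ι : CohB1.tensorMod N L ≅ Coh.structureModule V) {s : Γ(L, ⊤)} (hs : s ≠ 0) {s' : Γ(N, ⊤)}
    (hs' : s' ≠ 0) : Nonempty (L ≅ Coh.structureModule V) := by
  let a := homOfSection s
  let b := homOfSection s'
  let c := SecTwist.tmulHom b a ≫ ι.hom
  have hc : CohB1.genLocus _ c = CohB1.genLocus _ b ⊓ CohB1.genLocus _ a := by
    rw [PicAux.genLocus_comp_iso, PicAux.genLocus_tmulHom hN hL]
  have hne' : CohB1.genLocus _ c ≠ ⊥ := by
    rw [hc]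
    intro he
    obtain ⟨z, hz⟩ := nonempty_preirreducible_inter (CohB1.genLocus _ b).isOpen
      (CohB1.genLocus _ a).isOpen (genLocus_nonempty hN hs') (genLocus_nonempty hL hs)
    exact (he.le hz).elim
  have hc0 : gsec c ≠ 0 := fun h => hne' (eq_bot_iff.2 fun z hz => by
    have hg := (PicAux.le_genLocus_iff c _).1 le_rfl
    rw [h, PicAux.res_zero] at hg
    have h1 := hg.smul_inj (le_refl (CohB1.genLocus _ c)) (r := 1) (r' := 0) (by simp)
    have h2 := (V.toRingedSpace.mem_basicOpen (1 : Γ(V, CohB1.genLocus _ c)) z hz).2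
      (by rw [map_one]; exact isUnit_one)
    rw [h1] at h2
    exact (V.basicOpen_zero _).le h2)
  have hct : (⊤ : V.Opens) ≤ CohB1.genLocus _ c := by
    rw [PicAux.le_genLocus_iff, PicAux.res_self]
    exact gen_of_ne_zero h0 ⟨Iso.refl _⟩ hc0
  rw [hc, le_inf_iff, PicAux.le_genLocus_iff, PicAux.le_genLocus_iff] at hct
  exact PicAux.nonempty_iso_structure_iff.2 ⟨_, hct.2⟩

/-- Triviality descends along field extensions. -/
theorem trivial_of_extension {K : Type u} [Field K] {V : Scheme.{u}}
    (p : V ⟶ Spec (CommRingCat.of K)) [IsProper p] [GeometricallyIntegral p] {L : V.Modules}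
    (hL : PicF.IsInvertible L) {K' : Type u} [Field K'] [Algebra K K'] {V' : Scheme.{u}}
    {g : V' ⟶ V} {q : V' ⟶ Spec (CommRingCat.of K')}
    (H : IsPullback g q p (Spec.map (CommRingCat.ofHom (algebraMap K K'))))
    (h : Nonempty ((Scheme.Modules.pullback g).obj L ≅ Coh.structureModule V')) :
    Nonempty (L ≅ Coh.structureModule V) := by
  have : Nonempty V' := by
    obtain ⟨x⟩ : Nonempty V := by
      obtain ⟨x, -⟩ := (inferInstance : Surjective p).1 (IsLocalRing.closedPoint K)
      exact ⟨x⟩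
    obtain ⟨z, -⟩ := Scheme.Pullback.exists_preimage_pullback (f := p)
      (g := Spec.map (CommRingCat.ofHom (algebraMap K K'))) x (IsLocalRing.closedPoint K')
      (Subsingleton.elim (α := PrimeSpectrum K) _ _)
    exact ⟨H.isoPullback.inv z⟩
  obtain ⟨N, hN, ⟨ι⟩⟩ := PicAux.exists_inverse hL
  letI : V.Over (Spec (CommRingCat.of K)) := ⟨p⟩
  have hprop : IsProper (V ↘ Spec (CommRingCat.of K)) := ‹IsProper p›
  have key : ∀ (M : V.Modules), PicF.IsInvertible M →
      Nonempty ((Scheme.Modules.pullback g).obj M ≅ Coh.structureModule V') →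
      ∃ s : Γ(M, ⊤), s ≠ 0 := by
    intro M hM htriv
    obtain ⟨Q, -, h1, h2, -⟩ := exists_rep (A := K) M
      ⟨PicAux.isQCoh_of_isInvertible hM, Ega2Proj.isFT_of_isInvertible hM⟩
      (isFlatOver_of_isInvertible p hM)
    obtain ⟨w, -⟩ := h1 K' H
    obtain ⟨σ, hσ⟩ := PicAux.nonempty_iso_structure_iff.1 htriv
    have hne : w σ ≠ 0 := fun h => gen_top_ne_zero hσ (w.map_eq_zero_iff.1 h)
    obtain ⟨x, hx⟩ : ∃ x, (w σ) x ≠ 0 := by
      by_contra h
      push Not at h
      exact hne (LinearMap.ext h)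
    have hx0 : x ≠ 0 := fun h => hx (by rw [h, map_zero])
    obtain ⟨φ, hφ⟩ := Module.Projective.exists_dual_ne_zero K hx0
    obtain ⟨s, hs⟩ := h2 φ K' fun h => hφ ((algebraMap K K').injective (by
      rw [map_zero]; exact LinearMap.congr_fun h x))
    refine ⟨s, fun h => hs H ?_⟩
    rw [h]
    exact map_zero (((Scheme.Modules.pullbackPushforwardAdjunction g).unit.app M).app ⊤).hom
  have hN' : Nonempty ((Scheme.Modules.pullback g).obj N ≅ Coh.structureModule V') := by
    obtain ⟨i⟩ := h
    obtain ⟨eT, -⟩ := PicAux.exists_pullback_tensorMod g N L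
    exact ⟨(SecTwist.unitorR _).symm ≪≫ PicGrp.tensorModIso (Iso.refl _) i.symm ≪≫ eT.symm ≪≫
      (Scheme.Modules.pullback g).mapIso ι ≪≫ (PicAux.pullback_structure_iso g).some⟩
  obtain ⟨s, hs⟩ := key L hL h
  obtain ⟨s', hs'⟩ := key N hN hN'
  have := GeometricallyIntegral.isIntegral_of_subsingleton p
  have := geometricallyConnected_of_integral p
  have := locallyOfFinitePresentation_of_isNoetherian p
  exact trivial_of_sections (q := p)
    ((GrpschAbsch.H0General.app_bijective p ⊤).comp
      (ConcreteCategory.bijective_of_isIso (Scheme.ΓSpecIso (CommRingCat.of K)).inv))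
    hL hN ι hs hs'

end Groth.Abvar.Seesaw
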