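import Mathlib.Algebra.Module.FinitePresentation
import Mathlib.RingTheory.LocalRing.Module
import Mathlib.RingTheory.Filtration
import Mathlib.RingTheory.Support
import Mathlib.RingTheory.Flat.FaithfullyFlat.Basic
import Mathlib.LinearAlgebra.TensorProduct.Tower
import Mathlib.LinearAlgebra.Dual.Lemmas

/-!
# Functionals on a module of fibre rank one
-/

universe u

open scoped TensorProduct

namespace Groth.Abvar.Seesaw

variable {R : Type u} [CommRing R] {Q : Type u} [AddCommGroup Q] [Module R Q]

/-- A one-dimensional space of functionals into a field gives a one-dimensional fibre. -/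
theorem finrank_eq_one_of_dual (K : Type u) [Field K] [Algebra R K] (φ₀ : Q →ₗ[R] K) (h0 : φ₀ ≠ 0)
    (hall : ∀ φ : Q →ₗ[R] K, ∃ b : K, φ = LinearMap.mul R K b ∘ₗ φ₀) :
    Module.finrank K (K ⊗[R] Q) = 1 := by
  rw [← Subspace.dual_finrank_eq]
  let e : (Q →ₗ[R] K) ≃ₗ[K] Module.Dual K (K ⊗[R] Q) := LinearMap.liftBaseChangeEquiv K
  rw [← e.finrank_eq]
  refine finrank_eq_one φ₀ h0 fun φ => ?_
  obtain ⟨b, rfl⟩ := hall φ
  exact ⟨b, LinearMap.ext fun x => rfl⟩

variable [IsNoetherianRing R] [Module.Finite R Q] (p : Ideal R) [p.IsPrime]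

/-- If the fibre at `p` is one-dimensional and there are functionals with nonzero residue to all
`R_p / pⁿ`, then there is one with values not all in `p`. -/
theorem exists_hom_of_artinian
    (h1 : Module.finrank p.ResidueField (p.ResidueField ⊗[R] Q) = 1)
    (hn : ∀ n : ℕ, ∃ (φ : Q →ₗ[R] Localization.AtPrime p ⧸
        IsLocalRing.maximalIdeal (Localization.AtPrime p) ^ (n + 1)) (q : Q), IsUnit (φ q)) :
    ∃ (ψ : Q →ₗ[R] R) (q : Q), ψ q ∉ p := by
  classical
  let K := p.ResidueField
  -- a generator near `p`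
  obtain ⟨q₀, hq₀⟩ : ∃ q₀ : Q, (1 : K) ⊗ₜ[R] q₀ ≠ 0 := by
    by_contra h
    push Not at h
    have hz : ∀ z : K ⊗[R] Q, z = 0 := fun z => by
      induction z using TensorProduct.induction_on with
      | zero => rfl
      | tmul k q =>
        rw [show k ⊗ₜ[R] q = k • ((1 : K) ⊗ₜ[R] q) by
          rw [TensorProduct.smul_tmul', smul_eq_mul, mul_one], h q, smul_zero]
      | add x y hx hy => rw [hx, hy, add_zero]
    have : Subsingleton (K ⊗[R] Q) := subsingleton_of_forall_eq 0 hz
    rw [Module.finrank_zero_of_subsingleton] at h1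
    exact zero_ne_one h1
  let N : Submodule R Q := R ∙ q₀
  have hsupp : (⟨p, ‹p.IsPrime›⟩ : PrimeSpectrum R) ∉ Module.support R (Q ⧸ N) := by
    rw [Module.mem_support_iff_nontrivial_residueField_tensorProduct, not_nontrivial_iff_subsingleton]
    refine subsingleton_of_forall_eq 0 fun z => ?_
    obtain ⟨z, rfl⟩ := LinearMap.lTensor_surjective K N.mkQ_surjective z
    obtain ⟨k, rfl⟩ := exists_smul_eq_of_finrank_eq_one h1 hq₀ z
    rw [TensorProduct.smul_tmul', smul_eq_mul, mul_one, LinearMap.lTensor_tmul,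
      show N.mkQ q₀ = 0 from (Submodule.Quotient.mk_eq_zero N).2 (Submodule.mem_span_singleton_self q₀),
      TensorProduct.tmul_zero]
  obtain ⟨t, htp, htQ⟩ : ∃ t : R, t ∉ p ∧ ∀ q : Q, t • q ∈ N := by
    rw [Module.notMem_support_iff'] at hsupp
    choose f hf hf0 using fun q : Q => hsupp (N.mkQ q)
    obtain ⟨G, hG⟩ := (Module.finite_def.1 ‹Module.Finite R Q› : (⊤ : Submodule R Q).FG)
    refine ⟨∏ q ∈ G, f q, fun h => ?_, fun q => ?_⟩
    · obtain ⟨q, -, hq⟩ := (Ideal.IsPrime.prod_mem_iff).1 h
      exact hf q hq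
    · have hq : q ∈ (N.comap ((∏ q ∈ G, f q) • LinearMap.id : Q →ₗ[R] Q)) := by
        refine (Submodule.span_le.2 ?_ : Submodule.span R (G : Set Q) ≤ _) (by rw [hG]; trivial)
        intro g hg
        obtain ⟨w, hw⟩ := Finset.dvd_prod_of_mem f (Finset.mem_coe.1 hg)
        show (∏ q ∈ G, f q) • g ∈ N
        rw [hw, mul_comm, mul_smul]
        refine N.smul_mem _ ((Submodule.Quotient.mk_eq_zero N).1 ?_)
        exact hf0 g
      exact hq
  choose a ha using fun q => Submodule.mem_span_singleton.1 (htQ q)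
  -- the annihilator of the generator dies near `p`
  have hann : ∀ x : R, x • q₀ = 0 → ∃ s : R, s ∉ p ∧ s * x = 0 := by
    intro x hx
    have hzero : algebraMap R (Localization.AtPrime p) x ∈
        ⨅ n : ℕ, IsLocalRing.maximalIdeal (Localization.AtPrime p) ^ (n + 1) := by
      refine Ideal.mem_iInf.2 fun n => ?_
      obtain ⟨φ, q, hq⟩ := hn n
      refine Ideal.Quotient.eq_zero_iff_mem.1 ?_
      have htu : IsUnit (algebraMap R (Localization.AtPrime p ⧸
          IsLocalRing.maximalIdeal (Localization.AtPrime p) ^ (n + 1)) t) :=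
        ((IsLocalization.map_units (Localization.AtPrime p)
          (⟨t, htp⟩ : p.primeCompl))).map (Ideal.Quotient.mk _)
      have h2 : algebraMap R _ t * φ q = algebraMap R _ (a q) * φ q₀ := by
        rw [← Algebra.smul_def, ← Algebra.smul_def, ← map_smul, ← map_smul, ha]
      have hu : IsUnit (φ q₀) := isUnit_of_mul_isUnit_right (h2 ▸ htu.mul hq)
      refine hu.mul_left_eq_zero.1 ?_
      rw [← map_zero φ, ← hx, map_smul, Algebra.smul_def]
      rfl
    have hbot : (⨅ n : ℕ, IsLocalRing.maximalIdeal (Localization.AtPrime p) ^ (n + 1)) = ⊥ := by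
      refine le_bot_iff.1 ((le_iInf fun n => ?_).trans
        (Ideal.iInf_pow_eq_bot_of_isLocalRing (IsLocalRing.maximalIdeal (Localization.AtPrime p))
          (IsLocalRing.maximalIdeal.isMaximal _).ne_top).le)
      exact (iInf_le _ n).trans (Ideal.pow_le_pow_right n.le_succ)
    rw [hbot, Submodule.mem_bot, IsLocalization.map_eq_zero_iff p.primeCompl] at hzero
    obtain ⟨s, hs⟩ := hzero
    exact ⟨s, s.2, hs⟩
  obtain ⟨s, hsp, hs⟩ : ∃ s : R, s ∉ p ∧ ∀ x : R, x • q₀ = 0 → s * x = 0 := by
    let A : Ideal R := LinearMap.ker (LinearMap.toSpanSingleton R Q q₀)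
    obtain ⟨G, hG⟩ := IsNoetherian.noetherian A
    have hmem : ∀ x ∈ G, x • q₀ = 0 := fun x hx =>
      (show x ∈ A from hG ▸ Submodule.subset_span hx : _)
    choose f hf hf0 using fun x : G => hann x.1 (hmem x.1 x.2)
    refine ⟨∏ x : G, f x, fun h => ?_, fun x hx => ?_⟩
    · obtain ⟨x, -, hx⟩ := (Ideal.IsPrime.prod_mem_iff).1 h
      exact hf x hx
    · have hxA : x ∈ Submodule.span R (G : Set R) := hG.symm ▸ (show x ∈ A from hx)
      have hle : Submodule.span R (G : Set R) ≤ LinearMap.ker (LinearMap.mulLeft R (∏ x : G, f x)) := by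
        refine Submodule.span_le.2 fun g hg => ?_
        obtain ⟨w, hw⟩ := Finset.dvd_prod_of_mem f (Finset.mem_univ (⟨g, hg⟩ : G))
        show (∏ x : G, f x) * g = 0
        rw [hw, mul_right_comm, hf0 ⟨g, hg⟩, zero_mul]
      exact hle hxA
  have huniq : ∀ (q : Q) (b : R), b • q₀ = t • q → s * b = s * a q := fun q b hb => by
    rw [← sub_eq_zero, ← mul_sub]
    exact hs _ (by rw [sub_smul, hb, ha, sub_self])
  let ψ : Q →ₗ[R] R :=
    { toFun := fun q => s * a q
      map_add' := fun q q' => by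
        rw [← mul_add]
        exact (huniq (q + q') _ (by rw [add_smul, ha, ha, smul_add])).symm
      map_smul' := fun c q => by
        rw [RingHom.id_apply, smul_eq_mul, mul_left_comm]
        exact (huniq (c • q) _ (by rw [mul_smul, ha, smul_comm])).symm }
  refine ⟨ψ, q₀, fun h => ?_⟩
  change s * a q₀ ∈ p at h
  rw [← huniq q₀ t rfl] at h
  exact ((‹p.IsPrime›).mem_or_mem h).elim hsp htp

omit [IsNoetherianRing R] in
/-- On a projective module with nonzero fibre at `p` some functional has values outside `p`. -/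
theorem exists_hom_of_projective [Module.Projective R Q]
    (h : Nontrivial (p.ResidueField ⊗[R] Q)) : ∃ (ψ : Q →ₗ[R] R) (q : Q), ψ q ∉ p := by
  by_contra hcon
  push Not at hcon
  obtain ⟨n, f, g, hf, hg, hfg⟩ := Module.Finite.exists_comp_eq_id_of_projective R Q
  refine (not_subsingleton_iff_nontrivial.2 h) (subsingleton_of_forall_eq 0 fun z => ?_)
  induction z using TensorProduct.induction_on with
  | zero => rfl
  | tmul k q =>
    have hq : q = f (g q) := (LinearMap.congr_fun hfg q).symm
    rw [hq, pi_eq_sum_univ' (g q), map_sum, TensorProduct.tmul_sum]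
    refine Finset.sum_eq_zero fun i _ => ?_
    rw [map_smul, TensorProduct.tmul_smul, TensorProduct.smul_tmul']
    have : algebraMap R p.ResidueField (g q i) = 0 :=
      Ideal.algebraMap_residueField_eq_zero.2 (hcon ((LinearMap.proj i).comp g) q)
    rw [Algebra.smul_def, this, zero_mul, TensorProduct.zero_tmul]
  | add x y hx hy => rw [hx, hy, add_zero]

end Groth.Abvar.Seesaw
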