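import Groth.Agent.Abvar.Seesaw.Rep
import Groth.Agent.Abvar.Seesaw.Alg
import Groth.Agent.PicAux.GenLocusOps
import Groth.Agent.PicAux.GenLocusAffine
import Groth.Agent.PicAux.Integral
import Groth.Agent.PicAux.PicLaw
import Groth.Agent.PicAux.PullTensor
import Groth.Agent.Ega2Proj.TwistExtend
import Groth.Agent.QCohMod.Stalk
import Groth.Agent.Calg6.RankImage
import Groth.Agent.GrpschAbsch.H0General
import Mathlib.RingTheory.HopkinsLevitzki
import Mathlib.AlgebraicGeometry.Fiber

/-!
# The seesaw principle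

For a proper flat morphism over a Noetherian affine base and an invertible module: generators on
fibres spread out, the locus of trivial fibres is closed (integral fibres), and two criteria for
triviality near a point of the base (reduced base; all infinitesimal neighbourhoods).
-/

universe u

open CategoryTheory Limits AlgebraicGeometry TopologicalSpace Opposite
open scoped TensorProduct
open Groth.PicAux (res res_res res_smul resX Gen pullSec pullSec_smul res_pullSec gsec homOfSection)

namespace Groth.Abvar.Seesaw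

variable {P B : Scheme.{u}}

/-- `L` is trivial on the fibre over `y`. -/
def FibTriv (π : P ⟶ B) (L : P.Modules) (y : B) : Prop :=
  Nonempty ((Scheme.Modules.pullback (π.fiberι y)).obj L ≅ Coh.structureModule (π.fiber y))

/-- The fibre over `y` has only constant functions. -/
def H0Const (π : P ⟶ B) (y : B) : Prop :=
  Function.Bijective (Coh.toGlobal (X := π.fiber y) (A := B.residueField y)
    (π.fiberToSpecResidueField y))

/-- Triviality passes to pullbacks along morphisms through a trivialising one. -/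
theorem trivial_of_factor {Q Q' : Scheme.{u}} {g : Q ⟶ P} {g' : Q' ⟶ P} (e : Q' ⟶ Q)
    (he : e ≫ g = g') {L : P.Modules}
    (h : Nonempty ((Scheme.Modules.pullback g).obj L ≅ Coh.structureModule Q)) :
    Nonempty ((Scheme.Modules.pullback g').obj L ≅ Coh.structureModule Q') := by
  obtain ⟨i⟩ := h
  obtain ⟨j⟩ := PicAux.pullback_structure_iso e
  subst he
  exact ⟨((Scheme.Modules.pullbackComp e g).app L).symm ≪≫
    (Scheme.Modules.pullback e).mapIso i ≪≫ j⟩

/-- The fibre over a field-valued point is trivial when the fibre over its image is. -/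
theorem trivial_of_fibTriv {π : P ⟶ B} {L : P.Modules} {K : Type u} [Field K]
    (b : Spec (CommRingCat.of K) ⟶ B) (y : B) (hy : b (IsLocalRing.closedPoint K) = y)
    (h : FibTriv π L y) {Q : Scheme.{u}} {g : Q ⟶ P} {q : Q ⟶ Spec (CommRingCat.of K)}
    (H : IsPullback g q π b) :
    Nonempty ((Scheme.Modules.pullback g).obj L ≅ Coh.structureModule Q) := by
  subst hy
  let d := B.descResidueField (Scheme.stalkClosedPointTo b)
  have hd : Spec.map d ≫ B.fromSpecResidueField _ = b :=
    Scheme.descResidueField_stalkClosedPointTo_fromSpecResidueField _ _ b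
  exact trivial_of_factor (pullback.lift g (q ≫ Spec.map d) (by rw [Category.assoc, hd]; exact H.w))
    (pullback.lift_fst _ _ _) h

theorem h0Const_of_geometrically (π : P ⟶ B) [IsProper π] [Flat π] [LocallyOfFinitePresentation π]
    [GeometricallyReduced π] [GeometricallyConnected π] (y : B) : H0Const π y := by
  have sq := (IsPullback.of_hasPullback π (B.fromSpecResidueField y))
  have : GeometricallyReduced (π.fiberToSpecResidueField y) :=
    MorphismProperty.of_isPullback sq ‹_›
  have : GeometricallyConnected (π.fiberToSpecResidueField y) :=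
    MorphismProperty.of_isPullback sq ‹_›
  have : Flat (π.fiberToSpecResidueField y) := MorphismProperty.of_isPullback sq ‹_›
  have : LocallyOfFinitePresentation (π.fiberToSpecResidueField y) :=
    MorphismProperty.of_isPullback sq ‹_›
  have : IsProper (π.fiberToSpecResidueField y) := MorphismProperty.of_isPullback sq ‹_›
  exact (GrpschAbsch.H0General.app_bijective (π.fiberToSpecResidueField y) ⊤).comp
    (ConcreteCategory.bijective_of_isIso
      (Scheme.ΓSpecIso (CommRingCat.of (B.residueField y))).inv)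

theorem nonempty_of_toGlobal_bijective {Q : Scheme.{u}} {K : Type u} [Field K]
    {q : Q ⟶ Spec (CommRingCat.of K)} (h0 : Function.Bijective (Coh.toGlobal q)) : Nonempty Q := by
  by_contra hne
  have hQ : IsEmpty Q := not_nonempty_iff.1 hne
  have hs : Subsingleton Γ(Q, (⊤ : Q.Opens)) :=
    ⟨fun a b => PicAux.res_ext (M := Coh.structureModule Q) (x := (show Γ(Coh.structureModule Q, ⊤) from a)) (y := b) (fun e : Empty => e.elim) (fun e => e.elim) (fun y _ => (hQ.false y).elim) (fun e => e.elim)⟩
  exact one_ne_zero (h0.1 (hs.elim (Coh.toGlobal q (1 : K)) (Coh.toGlobal q 0)))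

/-- A nonzero section of a trivial module on a scheme with only constant functions generates. -/
theorem gen_of_ne_zero {Q : Scheme.{u}} {K : Type u} [Field K] {q : Q ⟶ Spec (CommRingCat.of K)}
    (h0 : Function.Bijective (Coh.toGlobal q)) {M : Q.Modules}
    (htriv : Nonempty (M ≅ Coh.structureModule Q)) {s : Γ(M, ⊤)} (hs : s ≠ 0) : Gen M ⊤ s := by
  obtain ⟨σ, hσ⟩ := PicAux.nonempty_iso_structure_iff.1 htriv
  obtain ⟨r, hr⟩ := hσ.exists_coeff le_rfl s
  rw [PicAux.res_self] at hr
  obtain ⟨b, rfl⟩ := h0.2 r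
  have hb : b ≠ 0 := fun h => hs (hr.trans
    ((congrArg (· • σ) ((congrArg _ h).trans (map_zero _))).trans (zero_smul _ σ)))
  rw [hr]
  exact hσ.smul_unit ((isUnit_iff_ne_zero.2 hb).map _)

/-- The generating locus of a nonzero section on a reduced scheme is nonempty. -/
theorem genLocus_nonempty {Q : Scheme.{u}} [IsReduced Q] {M : Q.Modules}
    (hM : PicF.IsInvertible M) {s : Γ(M, ⊤)} (hs : s ≠ 0) :
    (CohB1.genLocus M (homOfSection s) : Set Q).Nonempty := by
  by_contra h
  rw [Set.not_nonempty_iff_eq_empty] at h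
  obtain ⟨U, e, hU, -, he⟩ := PicAux.exists_gen_cover hM
  refine hs (PicAux.res_ext U (fun _ => le_top) hU.ge fun i => ?_)
  obtain ⟨c, hc⟩ := (he i).exists_coeff le_rfl (res M (le_top : U i ≤ ⊤) s)
  rw [PicAux.res_self] at hc
  have hb := PicAux.genLocus_inf_eq_basicOpen (s := homOfSection s) (he i)
    (by rw [PicAux.gsec_homOfSection]; exact hc)
  have hc0 : c = 0 := (basicOpen_eq_bot_iff c).1 (eq_bot_iff.2 fun z hz =>
    (h.le (hb.ge hz).1).elim)
  rw [hc, hc0, zero_smul, PicAux.res_zero]

/-- A generator on a nonempty scheme is not zero. -/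
theorem gen_top_ne_zero {Q : Scheme.{u}} [hne : Nonempty Q] {M : Q.Modules} {σ : Γ(M, ⊤)}
    (hσ : Gen M ⊤ σ) : σ ≠ 0 := fun h => by
  have h1 := hσ.smul_inj (le_rfl : (⊤ : Q.Opens) ≤ ⊤) (r := 1) (r' := 0)
    (by rw [PicAux.res_self, h, smul_zero, smul_zero])
  obtain ⟨z⟩ := hne
  have h2 := (Q.toRingedSpace.mem_basicOpen (1 : Γ(Q, ⊤)) z trivial).2
    (by rw [map_one]; exact isUnit_one)
  rw [h1] at h2
  exact (Q.basicOpen_zero _).le h2

/-- Generation on a fibre spreads to the preimage of an open. -/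
theorem exists_gen_nhd (π : P ⟶ B) [UniversallyClosed π] {L : P.Modules} (hL : PicF.IsInvertible L)
    (s : Γ(L, ⊤)) (y : B)
    (h : Gen ((Scheme.Modules.pullback (π.fiberι y)).obj L) ⊤ (pullSec (π.fiberι y) L s)) :
    ∃ V : B.Opens, y ∈ V ∧ Gen L (π ⁻¹ᵁ V) (res L le_top s) := by
  let G := CohB1.genLocus L (homOfSection s)
  let t := homOfSection (pullSec (π.fiberι y) L s)
  have ht : CohB1.genLocus _ t = π.fiberι y ⁻¹ᵁ G :=
    PicAux.genLocus_pullback _ hL _ (by rw [PicAux.gsec_homOfSection, PicAux.gsec_homOfSection])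
  have htop : (⊤ : (π.fiber y).Opens) ≤ CohB1.genLocus _ t := by
    rw [PicAux.le_genLocus_iff, PicAux.gsec_homOfSection, PicAux.res_self]
    exact h
  have hcl : IsClosed (π '' ((G : Set P)ᶜ)) :=
    π.isClosedMap _ G.isOpen.isClosed_compl
  refine ⟨⟨(π '' ((G : Set P)ᶜ))ᶜ, hcl.isOpen_compl⟩, ?_, ?_⟩
  · rintro ⟨x, hxG, hxy⟩
    obtain ⟨z, hz, -⟩ := Scheme.Pullback.exists_preimage_pullback (f := π)
      (g := B.fromSpecResidueField y) x (IsLocalRing.closedPoint (B.residueField y))
      (by rw [Scheme.fromSpecResidueField_apply]; exact hxy)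
    refine hxG ?_
    have := (ht ▸ htop) (show z ∈ (⊤ : (π.fiber y).Opens) from trivial)
    show x ∈ G
    rw [← hz]
    exact this
  · rw [← PicAux.gsec_homOfSection s, ← PicAux.le_genLocus_iff]
    intro x hx
    by_contra hxG
    exact hx ⟨x, hxG, rfl⟩

/-- A section generating near every point of the fibre, when it is not zero on it. -/
theorem exists_gen_nhd_of_ne_zero (π : P ⟶ B) [UniversallyClosed π] {L : P.Modules}
    (hL : PicF.IsInvertible L) (s : Γ(L, ⊤)) (y : B) (h0 : H0Const π y) (ht : FibTriv π L y)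
    (hs : pullSec (π.fiberι y) L s ≠ 0) :
    ∃ V : B.Opens, y ∈ V ∧ Gen L (π ⁻¹ᵁ V) (res L le_top s) :=
  exists_gen_nhd π hL s y (gen_of_ne_zero (K := B.residueField y) h0 ht hs)

/-- The stalk of an invertible module is free of rank one. -/
theorem exists_stalk_equiv {L : P.Modules} (hL : PicF.IsInvertible L) (x : P) :
    Nonempty (P.presheaf.stalk x ≃ₗ[P.presheaf.stalk x] L.presheaf.stalk x) := by
  obtain ⟨U, e, hxU, he⟩ := (PicAux.isInvertible_iff_exists_gen L).1 hL x
  refine ⟨LinearEquiv.ofBijective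
    (LinearMap.toSpanSingleton (P.presheaf.stalk x) (L.presheaf.stalk x) (QCohMod.germ L x hxU e))
    ⟨(injective_iff_map_eq_zero _).2 fun r hr => ?_, fun t => ?_⟩⟩
  · obtain ⟨W, hxW, r', rfl⟩ := TopCat.Presheaf.exists_germ_eq P.presheaf r
    have hx : x ∈ U ⊓ W := ⟨hxU, hxW⟩
    rw [LinearMap.toSpanSingleton_apply, ← QCohMod.germ_res L (inf_le_left : U ⊓ W ≤ U) x hx e,
      ← TopCat.Presheaf.germ_res_apply P.presheaf (homOfLE (inf_le_right : U ⊓ W ≤ W)) x hx r',
      ← QCohMod.germ_smul, ← map_zero (L.presheaf.germ (U ⊓ W) x hx).hom] at hr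
    obtain ⟨S, hxS, i, j, heq⟩ := TopCat.Presheaf.germ_eq L.presheaf x _ _ _ _ hr
    have heq' : res L i.le (resX P inf_le_right r' • res L inf_le_left e) = 0 :=
      heq.trans (map_zero _)
    rw [res_smul, res_res] at heq'
    have h0 : resX P i.le (resX P inf_le_right r') = 0 :=
      (he.res (i.le.trans inf_le_left)).smul_inj le_rfl
        (by rw [PicAux.res_self, zero_smul]; exact heq')
    rw [← TopCat.Presheaf.germ_res_apply P.presheaf
      (homOfLE (i.le.trans inf_le_right : S ≤ W)) x hxS r']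
    rw [PicAux.resX_resX] at h0
    exact (congrArg _ h0).trans (map_zero _)
  · obtain ⟨W, hxW, s, rfl⟩ := QCohMod.exists_germ L x t
    have hx : x ∈ U ⊓ W := ⟨hxU, hxW⟩
    obtain ⟨c, hc⟩ := he.exists_coeff (inf_le_left : U ⊓ W ≤ U) (res L inf_le_right s)
    refine ⟨P.presheaf.germ (U ⊓ W) x hx c, ?_⟩
    rw [← QCohMod.germ_res L (inf_le_right : U ⊓ W ≤ W) x hx s, LinearMap.toSpanSingleton_apply,
      ← QCohMod.germ_res L (inf_le_left : U ⊓ W ≤ U) x hx e, ← QCohMod.germ_smul]
    exact congrArg _ hc.symm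

theorem isFlatOver_of_isInvertible (π : P ⟶ B) [Flat π] {L : P.Modules}
    (hL : PicF.IsInvertible L) : FlatMod.IsFlatOver π L := by
  intro x
  obtain ⟨e⟩ := exists_stalk_equiv hL x
  let a : Algebra (B.presheaf.stalk (π x)) (P.presheaf.stalk x) := (π.stalkMap x).hom.toAlgebra
  have : Module.Flat (B.presheaf.stalk (π x)) (P.presheaf.stalk x) := Flat.stalkMap π x
  unfold FlatMod.IsFlatOverAt
  letI := FlatMod.moduleStalkOver π L x
  exact Module.Flat.of_linearEquiv (R := B.presheaf.stalk (π x))
    ({ e.toAddEquiv with map_smul' := fun r m => e.map_smul (π.stalkMap x r) m } :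
      P.presheaf.stalk x ≃ₗ[B.presheaf.stalk (π x)] L.presheaf.stalk x).symm

section Fibre

variable {R : Type u} [CommRing R] {Q : Type u} [AddCommGroup Q] [Module R Q] (p : Ideal R)
  [p.IsPrime]

/-- The dimension of the fibre does not depend on the field. -/
theorem finrank_fibre (K : Type u) [Field K] [Algebra R K]
    (hK : RingHom.ker (algebraMap R K) = p) :
    Module.finrank K (K ⊗[R] Q) = Module.finrank p.ResidueField (p.ResidueField ⊗[R] Q) := by
  let f : p.ResidueField →ₐ[R] K := Ideal.ResidueField.liftₐ p (Algebra.ofId R K) hK.ge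
    fun r hr => isUnit_iff_ne_zero.2 fun h0 => hr (hK.le h0)
  let _ : Algebra p.ResidueField K := f.toRingHom.toAlgebra
  have : IsScalarTower R p.ResidueField K := IsScalarTower.of_algebraMap_eq fun r => (f.commutes r).symm
  rw [← Module.finrank_baseChange (R := K) (S := p.ResidueField) (M' := p.ResidueField ⊗[R] Q)]
  exact ((TensorProduct.AlgebraTensorModule.cancelBaseChange R p.ResidueField K K Q).finrank_eq).symm

theorem mem_support_iff_finrank [Module.Finite R Q] (x : PrimeSpectrum R) (K : Type u) [Field K]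
    [Algebra R K] (hK : RingHom.ker (algebraMap R K) = x.asIdeal) :
    x ∈ Module.support R Q ↔ Module.finrank K (K ⊗[R] Q) ≠ 0 := by
  rw [finrank_fibre x.asIdeal K hK, Module.mem_support_iff_nontrivial_residueField_tensorProduct,
    ← Module.finrank_pos_iff (R := x.asIdeal.ResidueField), Nat.pos_iff_ne_zero]

end Fibre

section Affine

variable {R : Type u} [CommRing R] (π : P ⟶ Spec (CommRingCat.of R))

/-- The residue field of a point of an affine base, as an algebra. -/
noncomputable abbrev resAlgebra (x : PrimeSpectrum R) :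
    Algebra R ((Spec (CommRingCat.of R)).residueField x) :=
  (Spec.preimage ((Spec (CommRingCat.of R)).fromSpecResidueField x)).hom.toAlgebra

theorem isPullback_fibre (x : PrimeSpectrum R) :
    letI := resAlgebra x
    IsPullback (π.fiberι x) (π.fiberToSpecResidueField x) π
      (Spec.map (CommRingCat.ofHom (algebraMap R ((Spec (CommRingCat.of R)).residueField x)))) := by
  have h : Spec.map (Spec.preimage ((Spec (CommRingCat.of R)).fromSpecResidueField x)) =
      (Spec (CommRingCat.of R)).fromSpecResidueField x := Spec.map_preimage _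
  show IsPullback _ _ π (Spec.map (Spec.preimage _))
  rw [h]
  exact IsPullback.of_hasPullback _ _

theorem ker_resAlgebra (x : PrimeSpectrum R) :
    letI := resAlgebra x
    RingHom.ker (algebraMap R ((Spec (CommRingCat.of R)).residueField x)) = x.asIdeal := by
  have h := Scheme.fromSpecResidueField_apply (X := Spec (CommRingCat.of R)) x
    (IsLocalRing.closedPoint _)
  rw [← Spec.map_preimage ((Spec (CommRingCat.of R)).fromSpecResidueField x)] at h
  have h2 := congrArg PrimeSpectrum.asIdeal h
  refine Eq.trans ?_ h2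
  change _ = Ideal.comap _ (IsLocalRing.maximalIdeal _)
  rw [IsLocalRing.maximalIdeal_eq_bot]
  rfl

variable [IsNoetherianRing R] [IsProper π] [Flat π] {L : P.Modules}

/-- The module of the seesaw principle. -/
theorem exists_seesaw (hL : PicF.IsInvertible L) :
    ∃ Q : ModuleCat.{u} R, Module.Finite R Q ∧
      (∀ x : PrimeSpectrum R,
        x ∈ Module.support R Q ↔
          ∃ s : Γ((Scheme.Modules.pullback (π.fiberι x)).obj L, ⊤), s ≠ 0) ∧
      (∀ x : PrimeSpectrum R, H0Const π x → FibTriv π L x →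
        Module.finrank x.asIdeal.ResidueField (x.asIdeal.ResidueField ⊗[R] Q) = 1 ∧
          ∀ (φ : Q →ₗ[R] R) (q : Q), φ q ∉ x.asIdeal →
            ∃ V : (Spec (CommRingCat.of R)).Opens, x ∈ V ∧ ∃ s : Γ(L, π ⁻¹ᵁ V), Gen L _ s) ∧
      (∀ (C : Type u) [CommRing C] [Algebra R C] [IsLocalRing C] [IsArtinianRing C]
        {X' : Scheme.{u}} {g : X' ⟶ P} {q : X' ⟶ Spec (CommRingCat.of C)} [Nonempty X'],
        IsPullback g q π (Spec.map (CommRingCat.ofHom (algebraMap R C))) →
        Nonempty ((Scheme.Modules.pullback g).obj L ≅ Coh.structureModule X') →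
        ∃ (φ : Q →ₗ[R] C) (q : Q), IsUnit (φ q)) := by
  letI : P.Over (Spec (CommRingCat.of R)) := ⟨π⟩
  have hprop : IsProper (P ↘ Spec (CommRingCat.of R)) := ‹IsProper π›
  obtain ⟨Q, hQ, h1, h2, h3⟩ := exists_rep (A := R) L ⟨PicAux.isQCoh_of_isInvertible hL, Ega2Proj.isFT_of_isInvertible hL⟩
    (isFlatOver_of_isInvertible π hL)
  refine ⟨Q, hQ, fun x => ?_, fun x h0 ht => ?_, fun C _ _ _ _ X' g q _ H htriv => ?_⟩
  · letI := resAlgebra x
    let K := (Spec (CommRingCat.of R)).residueField x
    obtain ⟨w, -⟩ := h1 K (isPullback_fibre π x)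
    rw [mem_support_iff_finrank x K (ker_resAlgebra x)]
    have e : (Q →ₗ[R] K) ≃ₗ[K] Module.Dual K (K ⊗[R] Q) := LinearMap.liftBaseChangeEquiv K
    constructor
    · intro h
      rw [← Subspace.dual_finrank_eq] at h
      have : Nontrivial (Q →ₗ[R] K) := e.toEquiv.nontrivial_congr.2
        (Module.nontrivial_of_finrank_pos (Nat.pos_of_ne_zero h))
      obtain ⟨φ, hφ⟩ := exists_ne (0 : Q →ₗ[R] K)
      exact ⟨w.symm φ, fun h => hφ (w.symm.injective (h.trans (map_zero _).symm))⟩
    · rintro ⟨s, hs⟩ h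
      rw [← Subspace.dual_finrank_eq, Module.finrank_zero_iff] at h
      have : Subsingleton (Q →ₗ[R] K) := e.toEquiv.subsingleton
      exact hs (w.injective (Subsingleton.elim _ _))
  · letI := resAlgebra x
    let K := (Spec (CommRingCat.of R)).residueField x
    have H := isPullback_fibre π x
    obtain ⟨w, hw⟩ := h1 K H
    obtain ⟨σ, hσ⟩ := PicAux.nonempty_iso_structure_iff.1 ht
    have hne : Nonempty (π.fiber x) := nonempty_of_toGlobal_bijective (K := K) h0
    have hσ0 : σ ≠ 0 := gen_top_ne_zero hσ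
    refine ⟨?_, fun φ q hq => ?_⟩
    · rw [← finrank_fibre x.asIdeal K (ker_resAlgebra x)]
      refine finrank_eq_one_of_dual K (w σ) (fun h => hσ0 (w.map_eq_zero_iff.1 h)) fun φ => ?_
      obtain ⟨r, hr⟩ := hσ.exists_coeff le_rfl (w.symm φ)
      rw [PicAux.res_self] at hr
      obtain ⟨b, rfl⟩ := h0.2 r
      exact ⟨b, by rw [← hw, ← hr, AddEquiv.apply_symm_apply]⟩
    · obtain ⟨s, hs⟩ := h2 φ K fun h => hq (by
        have := LinearMap.congr_fun h q
        rw [← ker_resAlgebra x]
        exact this)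
      obtain ⟨V, hV, hg⟩ := exists_gen_nhd_of_ne_zero π hL s x h0 ht (hs H)
      exact ⟨V, hV, _, hg⟩
  · obtain ⟨φ, hφ⟩ := h3 C H htriv
    by_contra h
    push Not at h
    exact hφ (LinearMap.ext fun q => Ideal.Quotient.eq_zero_iff_mem.2
      ((IsLocalRing.mem_maximalIdeal _).2 (h φ q)))

/-- The locus of trivial fibres is closed when the fibres are integral. -/
theorem isClosed_fibTriv (hL : PicF.IsInvertible L) (h0 : ∀ x, H0Const π x)
    (hint : ∀ x, IsIntegral (π.fiber x)) : IsClosed {x | FibTriv π L x} := by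
  obtain ⟨N, hN, ⟨ι⟩⟩ := PicAux.exists_inverse hL
  obtain ⟨Q, hQ, hQs, -⟩ := exists_seesaw π hL
  obtain ⟨Q', hQ', hQ's, -⟩ := exists_seesaw π hN
  suffices h : {x | FibTriv π L x} = Module.support R Q ∩ Module.support R Q' by
    rw [h]
    exact Module.isClosed_support.inter Module.isClosed_support
  ext x
  let K := (Spec (CommRingCat.of R)).residueField x
  have hne : Nonempty (π.fiber x) := nonempty_of_toGlobal_bijective (K := K) (h0 x)
  have hex : ∀ M : (π.fiber x).Modules, Nonempty (M ≅ Coh.structureModule (π.fiber x)) →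
      ∃ s : Γ(M, ⊤), s ≠ 0 := fun M hM => by
    obtain ⟨σ, hσ⟩ := PicAux.nonempty_iso_structure_iff.1 hM
    exact ⟨σ, gen_top_ne_zero hσ⟩
  obtain ⟨eT, -⟩ := PicAux.exists_pullback_tensorMod (π.fiberι x) N L
  let ιx : CohB1.tensorMod ((Scheme.Modules.pullback (π.fiberι x)).obj N)
      ((Scheme.Modules.pullback (π.fiberι x)).obj L) ≅ Coh.structureModule (π.fiber x) :=
    eT.symm ≪≫ (Scheme.Modules.pullback (π.fiberι x)).mapIso ι ≪≫
      (PicAux.pullback_structure_iso (π.fiberι x)).some
  refine ⟨fun h => ⟨(hQs x).2 (hex _ h), (hQ's x).2 (hex _ ?_)⟩, fun h => ?_⟩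
  · obtain ⟨i⟩ := h
    let j := SecTwist.unitorR ((Scheme.Modules.pullback (π.fiberι x)).obj N)
    exact ⟨j.symm ≪≫ PicGrp.tensorModIso (Iso.refl _) i.symm ≪≫ ιx⟩
  · obtain ⟨s, hs⟩ := (hQs x).1 h.1
    obtain ⟨s', hs'⟩ := (hQ's x).1 h.2
    have := hint x
    have hfield : IsField (Γ(π.fiber x, ⊤) : Type u) :=
      (RingEquiv.ofBijective _ (h0 x)).symm.toMulEquiv.isField (Field.toIsField K)
    have hL' := PicAux.isInvertible_pullback (π.fiberι x) hL
    have hN' := PicAux.isInvertible_pullback (π.fiberι x) hN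
    let a := homOfSection s
    let b := homOfSection s'
    let c := SecTwist.tmulHom b a ≫ ιx.hom
    have hc : CohB1.genLocus _ c = CohB1.genLocus _ b ⊓ CohB1.genLocus _ a := by
      rw [PicAux.genLocus_comp_iso, PicAux.genLocus_tmulHom hN' hL']
    have hne' : CohB1.genLocus _ c ≠ ⊥ := by
      rw [hc]
      intro he
      obtain ⟨z, hz⟩ := nonempty_preirreducible_inter (CohB1.genLocus _ b).isOpen
        (CohB1.genLocus _ a).isOpen (genLocus_nonempty hN' hs') (genLocus_nonempty hL' hs)
      exact (he.le hz).elim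
    have hc0 : gsec c ≠ 0 := fun h => hne' (eq_bot_iff.2 fun z hz => by
      have hg := (PicAux.le_genLocus_iff c _).1 le_rfl
      rw [h, PicAux.res_zero] at hg
      have h1 := hg.smul_inj (le_refl (CohB1.genLocus _ c)) (r := 1) (r' := 0) (by simp)
      have h2 := ((π.fiber x).toRingedSpace.mem_basicOpen
        (1 : Γ(π.fiber x, CohB1.genLocus _ c)) z hz).2 (by rw [map_one]; exact isUnit_one)
      rw [h1] at h2
      exact ((π.fiber x).basicOpen_zero _).le h2)
    have hct : (⊤ : (π.fiber x).Opens) ≤ CohB1.genLocus _ c := by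
      rw [PicAux.le_genLocus_iff, PicAux.res_self]
      exact gen_of_ne_zero (K := K) (h0 x) ⟨Iso.refl _⟩ hc0
    rw [hc, le_inf_iff, PicAux.le_genLocus_iff, PicAux.le_genLocus_iff] at hct
    exact PicAux.nonempty_iso_structure_iff.2 ⟨_, hct.2⟩

/-- Over a reduced base, a module trivial on all fibres is trivial near each point of the base. -/
theorem exists_gen_of_isReduced [_root_.IsReduced R] (hL : PicF.IsInvertible L)
    (h0 : ∀ x, H0Const π x) (ht : ∀ x, FibTriv π L x) (x : PrimeSpectrum R) :
    ∃ V : (Spec (CommRingCat.of R)).Opens, x ∈ V ∧ ∃ s : Γ(L, π ⁻¹ᵁ V), Gen L _ s := by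
  obtain ⟨Q, hQ, -, hQt, -⟩ := exists_seesaw π hL
  have : Module.FinitePresentation R Q := Module.finitePresentation_of_finite R Q
  have hrk : ∀ (q : Ideal R) [q.IsPrime],
      Module.finrank q.ResidueField (q.ResidueField ⊗[R] Q) = 1 := fun q hq =>
    (hQt ⟨q, hq⟩ (h0 _) (ht _)).1
  have : Module.Projective R Q := Calg6.projective_of_finrank_eq
    fun m _ q _ _ => (hrk q).trans (hrk m).symm
  obtain ⟨ψ, q, hq⟩ := exists_hom_of_projective x.asIdeal (Q := Q)
    (Module.nontrivial_of_finrank_eq_succ (hrk x.asIdeal))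
  exact (hQt x (h0 x) (ht x)).2 ψ q hq

/-- A module trivial on all infinitesimal neighbourhoods of a fibre is trivial near it. -/
theorem exists_gen_of_artinian (hL : PicF.IsInvertible L) (x : PrimeSpectrum R)
    (h0 : H0Const π x) (ht : FibTriv π L x)
    (hn : ∀ (n : ℕ) {X' : Scheme.{u}} {g : X' ⟶ P}
      {q : X' ⟶ Spec (CommRingCat.of (Localization.AtPrime x.asIdeal ⧸
        IsLocalRing.maximalIdeal (Localization.AtPrime x.asIdeal) ^ (n + 1)))},
      IsPullback g q π (Spec.map (CommRingCat.ofHom (algebraMap R (Localization.AtPrime x.asIdeal ⧸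
        IsLocalRing.maximalIdeal (Localization.AtPrime x.asIdeal) ^ (n + 1))))) →
      Nonempty ((Scheme.Modules.pullback g).obj L ≅ Coh.structureModule X')) :
    ∃ V : (Spec (CommRingCat.of R)).Opens, x ∈ V ∧ ∃ s : Γ(L, π ⁻¹ᵁ V), Gen L _ s := by
  obtain ⟨Q, hQ, -, hQt, hQn⟩ := exists_seesaw π hL
  obtain ⟨h1, h2⟩ := hQt x h0 ht
  obtain ⟨ψ, q, hq⟩ := exists_hom_of_artinian x.asIdeal h1 fun n => by
    let M := Localization.AtPrime x.asIdeal
    let I := IsLocalRing.maximalIdeal M ^ (n + 1)
    have hI : I ≠ ⊤ := fun h => (IsLocalRing.maximalIdeal.isMaximal M).ne_top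
      (top_le_iff.1 (h.ge.trans (Ideal.pow_le_self n.succ_ne_zero)))
    have : Nontrivial (M ⧸ I) := Ideal.Quotient.nontrivial_iff.2 hI
    have : IsLocalRing (M ⧸ I) :=
      IsLocalRing.of_surjective' (Ideal.Quotient.mk I) Ideal.Quotient.mk_surjective
    have : IsNoetherianRing M :=
      IsLocalization.isNoetherianRing x.asIdeal.primeCompl M inferInstance
    have : IsArtinianRing (M ⧸ I) :=
      (isArtinianRing_iff_isNilpotent_maximalIdeal (M ⧸ I)).2 ⟨n + 1, by
        rw [← Ideal.map_comap_of_surjective (Ideal.Quotient.mk I) Ideal.Quotient.mk_surjective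
            (IsLocalRing.maximalIdeal (M ⧸ I)), IsLocalRing.eq_maximalIdeal
            (Ideal.comap_isMaximal_of_surjective (Ideal.Quotient.mk I)
              Ideal.Quotient.mk_surjective (K := IsLocalRing.maximalIdeal (M ⧸ I))), ← Ideal.map_pow]
        exact Ideal.map_quotient_self I⟩
    let g := pullback.fst π (Spec.map (CommRingCat.ofHom (algebraMap R (M ⧸ I))))
    have : Nonempty ↥(pullback π (Spec.map (CommRingCat.ofHom (algebraMap R (M ⧸ I))))) := by
      obtain ⟨z⟩ := nonempty_of_toGlobal_bijective h0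
      obtain ⟨w, -⟩ := Scheme.Pullback.exists_preimage_pullback (f := π)
        (g := Spec.map (CommRingCat.ofHom (algebraMap R (M ⧸ I)))) (π.fiberι x z)
        (IsLocalRing.closedPoint (M ⧸ I)) (by
          rw [← Scheme.Hom.comp_apply, Scheme.Hom.fiber_fac, Scheme.Hom.comp_apply,
            Scheme.fromSpecResidueField_apply]
          refine PrimeSpectrum.ext ?_
          show x.asIdeal = Ideal.comap (algebraMap R (M ⧸ I)) (IsLocalRing.maximalIdeal (M ⧸ I))
          rw [show algebraMap R (M ⧸ I) = (Ideal.Quotient.mk I).comp (algebraMap R M) from rfl,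
            ← Ideal.comap_comap, IsLocalRing.eq_maximalIdeal
              (Ideal.comap_isMaximal_of_surjective (Ideal.Quotient.mk I)
                Ideal.Quotient.mk_surjective (K := IsLocalRing.maximalIdeal (M ⧸ I)))]
          exact (IsLocalization.AtPrime.under_maximalIdeal M x.asIdeal).symm)
      exact ⟨w⟩
    exact hQn (M ⧸ I) (IsPullback.of_hasPullback _ _) (hn n (IsPullback.of_hasPullback _ _))
  exact h2 ψ q hq

end Affine

end Groth.Abvar.Seesaw
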