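import Groth.Agent.Abvar.Seesaw.Core

/-!
# The seesaw principle over a general base
-/

universe u

open CategoryTheory Limits AlgebraicGeometry TopologicalSpace Opposite
open Groth.PicAux (res Gen)

namespace Groth.Abvar.Seesaw

variable {P B : Scheme.{u}}

theorem toGlobal_comp {Q Q' : Scheme.{u}} {A : Type u} [CommRing A] (e : Q' ⟶ Q)
    (q : Q ⟶ Spec (CommRingCat.of A)) (a : A) :
    Coh.toGlobal (e ≫ q) a = e.appTop (Coh.toGlobal q a) := rfl

theorem toGlobal_specMap {Q : Scheme.{u}} {A A' : Type u} [CommRing A] [CommRing A']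
    (q : Q ⟶ Spec (CommRingCat.of A')) (φ : CommRingCat.of A ⟶ CommRingCat.of A') (a : A) :
    Coh.toGlobal (q ≫ Spec.map φ) a = Coh.toGlobal q (φ a) := by
  show q.appTop ((Spec.map φ).appTop ((Scheme.ΓSpecIso (CommRingCat.of A)).inv a)) = _
  have h := congr($(Scheme.ΓSpecIso_inv_naturality φ) a)
  exact congrArg q.appTop h.symm

/-- A trivialising section on an open, as triviality of the pullback to it. -/
theorem exists_gen_iff_trivial (L : P.Modules) (U : P.Opens) :
    (∃ s : Γ(L, U), Gen L U s) ↔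
      Nonempty ((Scheme.Modules.pullback U.ι).obj L ≅ Coh.structureModule (U : Scheme.{u})) :=
  (PicAux.nonempty_restrict_iso_iff U).symm.trans
    ⟨fun h => ⟨((Scheme.Modules.restrictFunctorIsoPullback U.ι).app L).symm ≪≫ h.some⟩,
      fun h => ⟨(Scheme.Modules.restrictFunctorIsoPullback U.ι).app L ≪≫ h.some⟩⟩

/-- Generators of a pullback along an open immersion descend to the image. -/
theorem exists_gen_image {Q : Scheme.{u}} (j : Q ⟶ P) [IsOpenImmersion j] (L : P.Modules)
    (W : Q.Opens) (h : ∃ s : Γ((Scheme.Modules.pullback j).obj L, W), Gen _ W s) :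
    ∃ s : Γ(L, j ''ᵁ W), Gen L (j ''ᵁ W) s := by
  rw [exists_gen_iff_trivial] at h ⊢
  have hr : Set.range (j ''ᵁ W).ι = Set.range (W.ι ≫ j) := by
    rw [Scheme.Opens.range_ι, Scheme.Hom.comp_base, TopCat.coe_comp, Set.range_comp,
      Scheme.Opens.range_ι]
    rfl
  exact trivial_of_factor (IsOpenImmersion.isoOfRangeEq (j ''ᵁ W).ι (W.ι ≫ j) hr).hom
    (IsOpenImmersion.isoOfRangeEq_hom_fac _ _ hr)
    ⟨((Scheme.Modules.pullbackComp W.ι j).app L).symm ≪≫ h.some⟩

variable (π : P ⟶ B) {V : B.Opens} (hV : IsAffineOpen V) (L : P.Modules)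

/-- The fibres over an affine open are those of the whole. -/
theorem exists_fibre_iso (x : PrimeSpectrum Γ(B, V)) :
    ∃ m : (pullback.snd π hV.fromSpec).fiber x ⟶ π.fiber (hV.fromSpec x), IsIso m ∧
      m ≫ π.fiberι (hV.fromSpec x) =
        (pullback.snd π hV.fromSpec).fiberι x ≫ pullback.fst π hV.fromSpec ∧
      m ≫ π.fiberToSpecResidueField (hV.fromSpec x) =
        (pullback.snd π hV.fromSpec).fiberToSpecResidueField x ≫
          Spec.map (hV.fromSpec.residueFieldMap x) := by
  have H := isPullback_fiberToSpecResidueField_of_isPullback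
    (IsPullback.of_hasPullback π hV.fromSpec) x
  exact ⟨_, H.isIso_fst_of_isIso, pullback.lift_fst _ _ _, H.w⟩

/-- Triviality on fibres can be checked on an affine open of the base. -/
theorem fibTriv_restrict_iff (x : PrimeSpectrum Γ(B, V)) :
    FibTriv (B := Spec (CommRingCat.of Γ(B, V))) (pullback.snd π hV.fromSpec)
        ((Scheme.Modules.pullback (pullback.fst π hV.fromSpec)).obj L) x ↔
      FibTriv π L (hV.fromSpec x) := by
  obtain ⟨m, hm, e, -⟩ := exists_fibre_iso π hV x
  constructor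
  · intro h
    refine trivial_of_factor (inv m) ?_
      ⟨((Scheme.Modules.pullbackComp ((pullback.snd π hV.fromSpec).fiberι x)
        (pullback.fst π hV.fromSpec)).app L).symm ≪≫ h.some⟩
    rw [IsIso.inv_comp_eq]
    exact e.symm
  · intro h
    obtain ⟨i⟩ := trivial_of_factor m e h
    exact ⟨(Scheme.Modules.pullbackComp ((pullback.snd π hV.fromSpec).fiberι x)
        (pullback.fst π hV.fromSpec)).app L ≪≫ i⟩

theorem h0Const_restrict (x : PrimeSpectrum Γ(B, V)) (h : H0Const π (hV.fromSpec x)) :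
    H0Const (B := Spec (CommRingCat.of Γ(B, V))) (pullback.snd π hV.fromSpec) x := by
  obtain ⟨m, hm, -, e⟩ := exists_fibre_iso π hV x
  have hr : Function.Bijective (hV.fromSpec.residueFieldMap x) :=
    ConcreteCategory.bijective_of_isIso _
  refine (Function.Bijective.of_comp_iff _ hr).1 ?_
  have hm' : Function.Bijective m.appTop := by
    have : IsIso ((Scheme.Γ).map m.op) := inferInstance
    exact ConcreteCategory.bijective_of_isIso ((Scheme.Γ).map m.op)
  have key : ∀ a, Coh.toGlobal (A := (Spec (CommRingCat.of Γ(B, V))).residueField x)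
      ((pullback.snd π hV.fromSpec).fiberToSpecResidueField x)
      (hV.fromSpec.residueFieldMap x a) = m.appTop
      (Coh.toGlobal (A := B.residueField (hV.fromSpec x))
        (π.fiberToSpecResidueField (hV.fromSpec x)) a) := fun a => by
    refine ((toGlobal_specMap (A := B.residueField (hV.fromSpec x))
      (A' := (Spec (CommRingCat.of Γ(B, V))).residueField x) _
      (hV.fromSpec.residueFieldMap x) a).symm).trans ?_
    exact (congrArg (fun q => Coh.toGlobal (A := B.residueField (hV.fromSpec x)) q a) e.symm).trans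
      (toGlobal_comp m _ a)
  exact (congrArg Function.Bijective (funext key)).mpr (hm'.comp h)

variable [IsProper π] [Flat π] [IsLocallyNoetherian B]

include hV in
theorem noetherian_of_affineOpen : IsNoetherianRing Γ(B, V) :=
  IsLocallyNoetherian.component_noetherian ⟨V, hV⟩

/-- The locus of trivial fibres is closed when the fibres are integral. -/
theorem isClosed_fibTriv_global {L : P.Modules} (hL : PicF.IsInvertible L) (h0 : ∀ y, H0Const π y)
    (hint : ∀ (V : B.Opens) (hV : IsAffineOpen V) x,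
      IsIntegral ((pullback.snd π hV.fromSpec).fiber x)) : IsClosed {y | FibTriv π L y} := by
  rw [← isOpen_compl_iff, isOpen_iff_forall_mem_open]
  intro y hy
  obtain ⟨_, ⟨V, hV, rfl⟩, hyV, -⟩ :=
    B.isBasis_affineOpens.exists_subset_of_mem_open (Set.mem_univ y) isOpen_univ
  obtain ⟨x, rfl⟩ : y ∈ Set.range hV.fromSpec := by rw [hV.range_fromSpec]; exact hyV
  have := noetherian_of_affineOpen hV
  have hcl := isClosed_fibTriv (R := Γ(B, V)) (pullback.snd π hV.fromSpec)
    (PicAux.isInvertible_pullback (pullback.fst π hV.fromSpec) hL)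
    (fun x => h0Const_restrict π hV x (h0 _)) (hint V hV)
  refine ⟨hV.fromSpec '' {x | FibTriv (B := Spec (CommRingCat.of Γ(B, V)))
      (pullback.snd π hV.fromSpec) ((Scheme.Modules.pullback (pullback.fst π hV.fromSpec)).obj L) x}ᶜ,
    ?_, hV.fromSpec.isOpenEmbedding.isOpenMap _ hcl.isOpen_compl, x, ?_, rfl⟩
  · rintro _ ⟨z, hz, rfl⟩ h
    exact hz ((fibTriv_restrict_iff π hV L z).2 h)
  · exact fun h => hy ((fibTriv_restrict_iff π hV L x).1 h)

omit [IsLocallyNoetherian B] [IsProper π] [Flat π] in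
/-- Generators over opens of an affine open of the base descend. -/
theorem exists_gen_descend {x : PrimeSpectrum Γ(B, V)}
    (h : ∃ V' : (Spec (CommRingCat.of Γ(B, V))).Opens, x ∈ V' ∧
      ∃ s : Γ((Scheme.Modules.pullback (pullback.fst π hV.fromSpec)).obj L,
        pullback.snd π hV.fromSpec ⁻¹ᵁ V'), Gen _ _ s) :
    ∃ V' : B.Opens, hV.fromSpec x ∈ V' ∧ ∃ s : Γ(L, π ⁻¹ᵁ V'), Gen L _ s := by
  obtain ⟨V', hx, hs⟩ := h
  obtain ⟨s, hs⟩ := exists_gen_image (pullback.fst π hV.fromSpec) L _ hs
  have e : π ⁻¹ᵁ (hV.fromSpec ''ᵁ V') =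
      pullback.fst π hV.fromSpec ''ᵁ (pullback.snd π hV.fromSpec ⁻¹ᵁ V') := by
    refine Opens.ext (Set.ext fun z => ⟨?_, ?_⟩)
    · rintro ⟨v, hv, hvz⟩
      obtain ⟨w, hw, hw'⟩ := Scheme.Pullback.exists_preimage_pullback (f := π) (g := hV.fromSpec)
        z v hvz.symm
      exact ⟨w, show pullback.snd π hV.fromSpec w ∈ V' by rw [hw']; exact hv, hw⟩
    · rintro ⟨w, hw, rfl⟩
      refine ⟨pullback.snd π hV.fromSpec w, hw, ?_⟩
      exact congr($((pullback.condition (f := π) (g := hV.fromSpec)).symm) w)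
  exact ⟨hV.fromSpec ''ᵁ V', ⟨x, hx, rfl⟩, res L e.le s, hs.res e.le⟩

/-- Over a reduced base, a module trivial on all fibres is trivial locally on the base. -/
theorem exists_gen_of_fibTriv [IsReduced B] {L : P.Modules} (hL : PicF.IsInvertible L)
    (h0 : ∀ y, H0Const π y) (ht : ∀ y, FibTriv π L y) (y : B) :
    ∃ V : B.Opens, y ∈ V ∧ ∃ s : Γ(L, π ⁻¹ᵁ V), Gen L _ s := by
  obtain ⟨_, ⟨V, hV, rfl⟩, hyV, -⟩ :=
    B.isBasis_affineOpens.exists_subset_of_mem_open (Set.mem_univ y) isOpen_univ
  obtain ⟨x, rfl⟩ : y ∈ Set.range hV.fromSpec := by rw [hV.range_fromSpec]; exact hyV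
  have := noetherian_of_affineOpen hV
  exact exists_gen_descend π hV L (exists_gen_of_isReduced (R := Γ(B, V))
    (pullback.snd π hV.fromSpec) (PicAux.isInvertible_pullback _ hL)
    (fun x => h0Const_restrict π hV x (h0 _)) (fun x => (fibTriv_restrict_iff π hV L x).2 (ht _)) x)

end Groth.Abvar.Seesaw
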