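import Groth.Agent.Abvar.Seesaw.GeomInt

/-!
# Normalising local trivialisations along a section
-/

universe u

open CategoryTheory Limits AlgebraicGeometry TopologicalSpace Opposite
open Groth.PicAux (res res_res res_smul res_self resX resX_resX resX_self Gen pullSec pullSec_smul
  res_pullSec)

namespace Groth.Abvar.Seesaw

variable {P B : Scheme.{u}} (π : P ⟶ B)

/-- A fibre over an open with a generator is trivial. -/
theorem fibTriv_of_gen {L : P.Modules} {V : B.Opens} {s : Γ(L, π ⁻¹ᵁ V)} (hs : Gen L _ s) {y : B}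
    (hy : y ∈ V) : FibTriv π L y := by
  have e : (⊤ : (π.fiber y).Opens) ≤ π.fiberι y ⁻¹ᵁ (π ⁻¹ᵁ V) := fun z _ => by
    show π (π.fiberι y z) ∈ V
    rw [← Scheme.Hom.comp_apply, Scheme.Hom.fiber_fac, Scheme.Hom.comp_apply,
      Scheme.fromSpecResidueField_apply]
    exact hy
  exact PicAux.nonempty_iso_structure_iff.2 ⟨_, (hs.pull (π.fiberι y)).res e⟩

theorem app_app_section {e : B ⟶ P} (he : e ≫ π = 𝟙 B) {V : B.Opens}
    (hV : V ≤ e ⁻¹ᵁ (π ⁻¹ᵁ V)) (c : Γ(B, V)) :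
    resX B hV (e.app (π ⁻¹ᵁ V) (π.app V c)) = c := by
  have key : ∀ (g : B ⟶ B) (_ : g = 𝟙 B) (h : V ≤ g ⁻¹ᵁ V),
      resX B h (g.app V c) = c := by
    rintro g rfl h
    exact resX_self h c
  exact key (e ≫ π) he hV

/-- Two normalised generators over an open agree. -/
theorem eq_of_normalised {L : P.Modules} {e : B ⟶ P} (he : e ≫ π = 𝟙 B)
    (hπ : ∀ V : B.Opens, Function.Bijective (π.app V))
    {τ : Γ((Scheme.Modules.pullback e).obj L, ⊤)} (hτ : Gen _ ⊤ τ) {V : B.Opens}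
    {a b : Γ(L, π ⁻¹ᵁ V)} (ha : Gen L _ a)
    (hea : pullSec e L a = res _ le_top τ) (heb : pullSec e L b = res _ le_top τ) : b = a := by
  obtain ⟨r, hr⟩ := ha.exists_coeff le_rfl b
  rw [res_self] at hr
  obtain ⟨c, rfl⟩ := (hπ V).2 r
  have h1 := congrArg (pullSec e L) hr
  rw [pullSec_smul, hea, heb] at h1
  have h2 : e.app (π ⁻¹ᵁ V) (π.app V c) = 1 :=
    (hτ.smul_inj (le_top : e ⁻¹ᵁ (π ⁻¹ᵁ V) ≤ ⊤) (by rw [one_smul]; exact h1)).symm
  have hV : V ≤ e ⁻¹ᵁ (π ⁻¹ᵁ V) := fun z hz => by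
    show π (e z) ∈ V
    rw [← Scheme.Hom.comp_apply, he]
    exact hz
  have h3 : c = 1 := by
    rw [← app_app_section π he hV c, h2, map_one]
  rw [hr, h3, map_one, one_smul]

/-- A generator near the fibre can be normalised along a section. -/
theorem exists_normalised {L : P.Modules} {e : B ⟶ P} (he : e ≫ π = 𝟙 B)
    {τ : Γ((Scheme.Modules.pullback e).obj L, ⊤)} (hτ : Gen _ ⊤ τ) {V : B.Opens}
    {a : Γ(L, π ⁻¹ᵁ V)} (ha : Gen L _ a) :
    ∃ a' : Γ(L, π ⁻¹ᵁ V), Gen L _ a' ∧ pullSec e L a' = res _ le_top τ := by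
  obtain ⟨u, hu⟩ := (hτ.res (le_top : e ⁻¹ᵁ (π ⁻¹ᵁ V) ≤ ⊤)).exists_unit (ha.pull e)
  have hV : V ≤ e ⁻¹ᵁ (π ⁻¹ᵁ V) := fun z hz => by
    show π (e z) ∈ V
    rw [← Scheme.Hom.comp_apply, he]
    exact hz
  have hV' : e ⁻¹ᵁ (π ⁻¹ᵁ V) ≤ V := fun z hz => by
    have h' : π (e z) ∈ V := hz
    rwa [← Scheme.Hom.comp_apply, he] at h'
  let v := resX B hV (↑u⁻¹ : Γ(B, e ⁻¹ᵁ (π ⁻¹ᵁ V)))
  refine ⟨π.app V v • a, ha.smul_unit ((u⁻¹).isUnit.map _ |>.map _), ?_⟩
  have h1 : e.app (π ⁻¹ᵁ V) (π.app V v) = (↑u⁻¹ : Γ(B, e ⁻¹ᵁ (π ⁻¹ᵁ V))) := by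
    have h2 := congrArg (resX B hV') (app_app_section π he hV v)
    simp only [v, resX_resX, resX_self] at h2
    exact h2
  rw [pullSec_smul, h1, hu, ← mul_smul, u.inv_mul, one_smul]

/-- A module trivial locally on the base and along a section is trivial. -/
theorem trivial_of_local {L : P.Modules} {e : B ⟶ P} (he : e ≫ π = 𝟙 B)
    (hπ : ∀ V : B.Opens, Function.Bijective (π.app V))
    (hloc : ∀ y : B, ∃ V : B.Opens, y ∈ V ∧ ∃ s : Γ(L, π ⁻¹ᵁ V), Gen L _ s)
    (hσ : Nonempty ((Scheme.Modules.pullback e).obj L ≅ Coh.structureModule B)) :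
    Nonempty (L ≅ Coh.structureModule P) := by
  obtain ⟨τ, hτ⟩ := PicAux.nonempty_iso_structure_iff.1 hσ
  choose V hV s hs using hloc
  choose t ht hte using fun y => exists_normalised π he hτ (hs y)
  have hcov : ⊤ ≤ ⨆ y, π ⁻¹ᵁ V y := fun x _ => Opens.mem_iSup.2 ⟨π x, hV (π x)⟩
  have hn : ∀ (y : B) (W : B.Opens) (hW : π ⁻¹ᵁ W ≤ π ⁻¹ᵁ V y),
      pullSec e L (res L hW (t y)) = res _ le_top τ := fun y W hW => by
    rw [← res_pullSec, hte, res_res]
  obtain ⟨σ, hσ', -⟩ := PicAux.res_glue (M := L) (U := ⊤) (fun y => π ⁻¹ᵁ V y) (fun _ => le_top)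
    hcov t fun y y' => by
      refine (eq_of_normalised π he hπ hτ (V := V y ⊓ V y')
        (a := res L (fun z hz => hz.1) (t y)) ((ht y).res _) (hn y _ _)
        (b := res L (fun z hz => hz.2) (t y')) (hn y' _ _)).symm
  refine PicAux.nonempty_iso_structure_iff.2
    ⟨σ, PicAux.Gen.of_cover _ (fun _ => le_top) hcov fun y => ?_⟩
  rw [hσ' y]
  exact ht y

/-- Constant functions on the fibres of a composite. -/
theorem h0Const_comp {Z : Scheme.{u}} (q : B ⟶ Z)
    [IsProper π] [Flat π] [LocallyOfFinitePresentation π] [GeometricallyReduced π]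
    [GeometricallyConnected π] [IsProper q] [Flat q] [LocallyOfFinitePresentation q]
    [GeometricallyReduced q] [GeometricallyConnected q] (z : Z) : H0Const (π ≫ q) z := by
  let m : (π ≫ q).fiber z ⟶ q.fiber z := pullback.lift ((π ≫ q).fiberι z ≫ π)
    ((π ≫ q).fiberToSpecResidueField z) (by rw [Category.assoc]; exact (π ≫ q).fiber_fac z)
  have sq : IsPullback ((π ≫ q).fiberι z) m π (q.fiberι z) := by
    refine IsPullback.of_bot (v₂₁ := q.fiberToSpecResidueField z) ?_ (pullback.lift_fst _ _ _).symm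
      (IsPullback.of_hasPullback _ _)
    have : m ≫ q.fiberToSpecResidueField z = (π ≫ q).fiberToSpecResidueField z :=
      pullback.lift_snd _ _ _
    rw [this]
    exact IsPullback.of_hasPullback _ _
  have : GeometricallyReduced m := MorphismProperty.of_isPullback sq ‹_›
  have : GeometricallyConnected m := MorphismProperty.of_isPullback sq ‹_›
  have : Flat m := MorphismProperty.of_isPullback sq ‹_›
  have : LocallyOfFinitePresentation m := MorphismProperty.of_isPullback sq ‹_›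
  have : IsProper m := MorphismProperty.of_isPullback sq ‹_›
  have h := h0Const_of_geometrically q z
  have hm : m ≫ q.fiberToSpecResidueField z = (π ≫ q).fiberToSpecResidueField z :=
    pullback.lift_snd _ _ _
  unfold H0Const
  rw [← hm]
  exact (GrpschAbsch.H0General.app_bijective m ⊤).comp h

end Groth.Abvar.Seesaw
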