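import Groth.Agent.Abvar.Seesaw.Global
import Mathlib.AlgebraicGeometry.Geometrically.Integral
import Mathlib.AlgebraicGeometry.Geometrically.Connected

/-!
# The seesaw principle for geometrically integral fibres
-/

universe u

open CategoryTheory Limits AlgebraicGeometry TopologicalSpace

namespace Groth.Abvar.Seesaw

variable {P B : Scheme.{u}} (π : P ⟶ B)

theorem geometricallyConnected_of_integral [GeometricallyIntegral π] :
    GeometricallyConnected π := by
  have h : ∀ Z : Scheme.{u}, IsIntegral Z → ConnectedSpace Z := fun Z _ => inferInstance
  rw [GeometricallyConnected.eq_geometrically]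
  intro K _ y Z fst snd hZ
  exact h Z (GeometricallyIntegral.geometrically_isIntegral (f := π) y fst snd hZ)

theorem locallyOfFinitePresentation_of_isNoetherian [LocallyOfFiniteType π] [IsLocallyNoetherian B] :
    LocallyOfFinitePresentation π := by
  rw [HasRingHomProperty.iff_appLE (P := @LocallyOfFinitePresentation)]
  intro U V e
  have := IsLocallyNoetherian.component_noetherian U
  exact RingHom.FinitePresentation.of_finiteType.1 (π.finiteType_appLE U.2 V.2 e)

/-- Constant functions on the fibres. -/
theorem h0Const_of_integral [IsProper π] [Flat π] [GeometricallyIntegral π]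
    [IsLocallyNoetherian B] (y : B) : H0Const π y :=
  have := geometricallyConnected_of_integral π
  have := locallyOfFinitePresentation_of_isNoetherian π
  h0Const_of_geometrically π y

/-- The locus of trivial fibres is closed. -/
theorem isClosed_fibTriv_of_integral [IsProper π] [Flat π] [GeometricallyIntegral π]
    [IsLocallyNoetherian B] {L : P.Modules} (hL : PicF.IsInvertible L) :
    IsClosed {y | FibTriv π L y} :=
  isClosed_fibTriv_global π hL (h0Const_of_integral π) fun _ _ _ => inferInstance

end Groth.Abvar.Seesaw
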