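import Groth.Agent.CohBase.ExchangeGeom
import Groth.Agent.CohBase.BaseChangeModel
import Groth.Agent.CohFin.Proper
import Groth.Agent.CohFin.ProjFinite
import Groth.Agent.PicAux.Sections
import Mathlib.RingTheory.Artinian.Ring

/-!
# The module corepresenting global sections of a flat coherent module with all base changes
-/

universe u

open CategoryTheory Limits AlgebraicGeometry TopologicalSpace Opposite
open scoped TensorProduct
open Groth.QCohMod (resFun resFun_resFun res_app)

namespace Groth.Abvar.Seesaw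

open CohBase

variable {A : Type u} [CommRing A] {X : Scheme.{u}} [X.Over (Spec (CommRingCat.of A))]

/-- Cycles of degree zero of the tensored Čech complex. -/
abbrev Z0 (G : GoodCover X) (F : X.Modules) (M : Type u) [AddCommGroup M] [Module A M] : Type u :=
  LinearMap.ker (((cxA A G.U F).d ((0 : ℕ) : ℤ) (((0 : ℕ) : ℤ) + 1)).hom.rTensor M)

section glob

variable {G : GoodCover X} {F : X.Modules} {M : Type u} [AddCommGroup M] [Module A M]
  {X' : Scheme.{u}} {g : X' ⟶ X} {F' : X'.Modules} [F'.IsQuasicoherent]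
  (Ψ : SecModel A G.U F M g F')

theorem exists_glob :
    ∃ e : Z0 G F M ≃+ Γ(F', ⊤), ∀ (z : Z0 G F M) (x : Fin (0 + 1) → G.ι),
      QCohMod.res F' le_top (e z) = Ψ.Φ (tupOpen G.U x)
        ((LinearMap.proj (R := A) (φ := fun x => secA A F (tupOpen G.U x)) x).rTensor M z.1) := by
  let R0 := SecModel.res' (g := g) G.hcov F'
  have hmem : ∀ z : Z0 G F M, ∃ s, R0.ι.app ⊤ s = Ψ.toTop 0 z.1 := fun z =>
    Res.mem_cyc_zero_iff.1 (Ψ.toTop_mem_cyc G.hcov z)
  choose sec hsec using hmem
  have hinj := Res.ι_app_injective (R := R0) ⊤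
  have hb := Ψ.toTop_bijective 0
  have hbij : Function.Bijective sec := by
    refine ⟨fun z w h => Subtype.ext (hb.1 (by rw [← hsec, ← hsec, h])), fun s => ?_⟩
    obtain ⟨z, hz⟩ := hb.2 (R0.ι.app ⊤ s)
    have hc : R0.ι.app ⊤ s ∈ R0.Cyc ⊤ 0 := Res.mem_cyc_zero_iff.2 ⟨s, rfl⟩
    have hz0 : ((cxA A G.U F).d ((0 : ℕ) : ℤ) (((0 : ℕ) : ℤ) + 1)).hom.rTensor M z = 0 := by
      refine (SecModel.cxA_d_rTensor 0 z).trans ((Ψ.toTop_bijective 1).1 ?_)
      refine ((SecModel.toTop_d _ 0 z).trans ?_).trans (map_zero (Ψ.toTop 1)).symm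
      rw [hz]
      exact hc
    exact ⟨⟨z, hz0⟩, hinj ((hsec _).trans hz)⟩
  refine ⟨{ Equiv.ofBijective sec hbij with map_add' := fun z w => hinj ?_ }, fun z x => ?_⟩
  · show R0.ι.app ⊤ (sec (z + w)) = R0.ι.app ⊤ (sec z + sec w)
    rw [map_add, hsec, hsec, hsec]
    exact map_add (Ψ.toTop 0) z.1 w.1
  · show QCohMod.res F' le_top (sec z) = _
    have h := congrArg (QCohMod.res F'
      (le_inf le_top (tupOpen_preimage g x).ge :
        g ⁻¹ᵁ tupOpen G.U x ≤ ⊤ ⊓ tupOpen (fun i => g ⁻¹ᵁ G.U i) x)) (congrFun (hsec z) x)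
    rw [SecModel.toTop_apply, QCohMod.res_res, QCohMod.res_self] at h
    refine Eq.trans ?_ h
    exact (QCohMod.res_res F' (inf_le_left : ⊤ ⊓ tupOpen (fun i => g ⁻¹ᵁ G.U i) x ≤ ⊤) _ (sec z)).symm

end glob

variable [IsNoetherianRing A]

/-- A finite module corepresenting the cycles of degree zero. -/
theorem exists_corep_cycles [IsProper (X ↘ Spec (CommRingCat.of A))] (G : GoodCover X)
    (F : X.Modules) (hF : Coh.IsCoh F)
    (hfl : FlatMod.IsFlatOver (X ↘ Spec (CommRingCat.of A)) F) :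
    ∃ Q : ModuleCat.{u} A, Module.Finite A Q ∧
      ∃ e : ∀ M : ModuleCat.{u} A, Z0 G F M ≃+ (Q →ₗ[A] M),
        ∀ {M N : ModuleCat.{u} A} (φ : M ⟶ N) (z : Z0 G F M),
          e N ⟨φ.hom.lTensor _ z.1, FlatCxBase.lTensor_mem_ker (cxA A G.U F) M φ z⟩ =
            φ.hom ∘ₗ e M z := by
  have := CohFin.compactSpace_of_proper (X ↘ Spec (CommRingCat.of A))
  have := CohFin.isSeparated_of_proper (X ↘ Spec (CommRingCat.of A))
  have := hF.1
  obtain ⟨L, φ, hL, -, hq⟩ := exists_finiteFree_qis A G F hfl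
    fun p => CohFin.hFin_of_proper CohFin.projFinite p X (X ↘ Spec (CommRingCat.of A)) F hF
  have : ∀ i, Module.Finite A (L.X i) := fun i => (hL i).1
  have : ∀ i, Module.Flat A (L.X i) := fun i => have := (hL i).2; inferInstance
  have hneg : ∀ M : ModuleCat.{u} A, IsZero (CohIII.T L (-1) M) := fun M => by
    refine IsZero.of_iso ?_ ((tFunIso φ (-1) hq).app M)
    refine (FlatCxBase.isZero_T_iff _ (FlatCxBase.cochain_prev (-1))
      (FlatCxBase.cochain_next (-1)) M).2 fun x _ => ⟨0, ?_⟩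
    have := ModuleCat.subsingleton_of_isZero (isZero_cxA_of_neg A G.U F (i := -1) (by norm_num))
    exact Subsingleton.elim _ _
  obtain ⟨Q, hQ, ⟨c⟩⟩ := CxExch.exists_corep L (-1) (CxExch.preservesEpi_of_isZero L (-1) hneg)
  let η : CohIII.TFun (cxA A G.U F) ((0 : ℕ) : ℤ) ≅
      (linearCoyoneda A (ModuleCat.{u} A)).obj (op Q) :=
    (tFunIso φ ((0 : ℕ) : ℤ) hq).symm ≪≫ c
  let cl : ∀ M : ModuleCat.{u} A, Z0 G F M →ₗ[A] (CohIII.TFun (cxA A G.U F) ((0 : ℕ) : ℤ)).obj M :=
    fun M => FlatCxBase.clsT (cxA A G.U F) (FlatCxBase.cochain_next ((0 : ℕ) : ℤ)) M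
  let e : ∀ M : ModuleCat.{u} A, Z0 G F M ≃+ (Q →ₗ[A] M) := fun M =>
    (LinearEquiv.ofBijective (cl M) (clsT_zero_bijective A G F M)).toAddEquiv.trans
      (((η.app M).toLinearEquiv).toAddEquiv.trans (ModuleCat.homLinearEquiv (S := A) (M := Q) (N := M)).toAddEquiv)
  refine ⟨Q, hQ, e, fun {M N} ψ z => ?_⟩
  show ((η.app N).toLinearEquiv (cl N _)).hom = ψ.hom ∘ₗ ((η.app M).toLinearEquiv (cl M z)).hom
  rw [← FlatCxBase.TFun_map_clsT]
  exact congrArg ModuleCat.Hom.hom (congr($(η.hom.naturality ψ) (cl M z)))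

/-- The corepresenting module controls sections on fibres and on Artinian thickenings. -/
theorem exists_rep [IsProper (X ↘ Spec (CommRingCat.of A))] (F : X.Modules) (hF : Coh.IsCoh F)
    (hfl : FlatMod.IsFlatOver (X ↘ Spec (CommRingCat.of A)) F) :
    ∃ Q : ModuleCat.{u} A, Module.Finite A Q ∧
      (∀ (K : Type u) [Field K] [Algebra A K] {X' : Scheme.{u}} {g : X' ⟶ X}
        {q : X' ⟶ Spec (CommRingCat.of K)}, IsPullback g q (X ↘ Spec (CommRingCat.of A))
          (Spec.map (CommRingCat.ofHom (algebraMap A K))) →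
        ∃ w : Γ((Scheme.Modules.pullback g).obj F, ⊤) ≃+ (Q →ₗ[A] K), ∀ (b : K) s,
          w ((show Γ(X', ⊤) from Coh.toGlobal q b) • s) = LinearMap.mul A K b ∘ₗ w s) ∧
      (∀ (φ : Q →ₗ[A] A) (K : Type u) [Field K] [Algebra A K],
        Algebra.linearMap A K ∘ₗ φ ≠ 0 →
        ∃ s : Γ(F, ⊤), ∀ {X' : Scheme.{u}} {g : X' ⟶ X} {q : X' ⟶ Spec (CommRingCat.of K)},
          IsPullback g q (X ↘ Spec (CommRingCat.of A))
            (Spec.map (CommRingCat.ofHom (algebraMap A K))) →
          PicAux.pullSec g F s ≠ 0) ∧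
      (∀ (C : Type u) [CommRing C] [Algebra A C] [IsLocalRing C] [IsArtinianRing C]
        {X' : Scheme.{u}} {g : X' ⟶ X} {q : X' ⟶ Spec (CommRingCat.of C)} [Nonempty X'],
        IsPullback g q (X ↘ Spec (CommRingCat.of A))
          (Spec.map (CommRingCat.ofHom (algebraMap A C))) →
        Nonempty ((Scheme.Modules.pullback g).obj F ≅ Coh.structureModule X') →
        ∃ φ : Q →ₗ[A] C,
          (Ideal.Quotient.mkₐ A (IsLocalRing.maximalIdeal C)).toLinearMap ∘ₗ φ ≠ 0) := by
  have := CohFin.compactSpace_of_proper (X ↘ Spec (CommRingCat.of A))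
  have := CohFin.isSeparated_of_proper (X ↘ Spec (CommRingCat.of A))
  have := hF.1
  obtain ⟨G⟩ := exists_goodCover X
  obtain ⟨Q, hQ, e, he⟩ := exists_corep_cycles G F hF hfl
  refine ⟨Q, hQ, fun K _ _ {X' g q} H => ?_, fun φ K _ _ hφ => ?_,
    fun C _ _ _ _ {X' g q} _ H htriv => ?_⟩
  · let _ : X'.Over (Spec (CommRingCat.of K)) := ⟨q⟩
    have := QCohMod.isQCoh_pullback_obj g F
    obtain ⟨w, hw⟩ := exists_glob (bcModel (A := A) (A' := K) H F G)
    refine ⟨w.symm.trans (e (ModuleCat.of A K)), fun b s => ?_⟩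
    let f : ModuleCat.of A K ⟶ ModuleCat.of A K := ModuleCat.ofHom (LinearMap.mul A K b)
    let z := w.symm s
    let z' : Z0 G F (ModuleCat.of A K) :=
      ⟨f.hom.lTensor _ z.1, FlatCxBase.lTensor_mem_ker (cxA A G.U F) _ f z⟩
    have hz' : w z' = (show Γ(X', ⊤) from Coh.toGlobal q b) • s := by
      refine PicAux.res_ext (fun x : Fin (0 + 1) → G.ι => g ⁻¹ᵁ tupOpen G.U x) (fun _ => le_top)
        ?_ fun x => ?_
      · intro p _
        obtain ⟨i, hi⟩ := Opens.mem_iSup.1 (G.hcov.ge (Opens.mem_top (g p)))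
        refine Opens.mem_iSup.2 ⟨fun _ => i, ?_⟩
        show g p ∈ tupOpen G.U fun _ => i
        rw [tupOpen, inter_one]
        exact hi
      · change QCohMod.res _ le_top (w z') =
          QCohMod.res _ le_top ((show Γ(X', ⊤) from Coh.toGlobal q b) • s)
        rw [hw, QCohMod.res_smul]
        change bcSec (A := A) (A' := K) H F _ _ = _
        have e1 : (LinearMap.proj (R := A) (φ := fun x => secA A F (tupOpen G.U x)) x).rTensor K z'.1
            = (LinearMap.mul A K b).lTensor _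
              ((LinearMap.proj (R := A) (φ := fun x => secA A F (tupOpen G.U x)) x).rTensor K z.1) := by
          change LinearMap.rTensor K _ (LinearMap.lTensor _ (LinearMap.mul A K b) z.1) = _
          rw [← LinearMap.comp_apply, LinearMap.rTensor_comp_lTensor,
            ← LinearMap.lTensor_comp_rTensor, LinearMap.comp_apply]
          rfl
        rw [e1, bcSec_smul]
        refine congrArg _ ((hw z x).symm.trans ?_)
        exact congrArg _ (w.apply_symm_apply s)
    have := he f z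
    show e (ModuleCat.of A K) (w.symm ((show Γ(X', ⊤) from Coh.toGlobal q b) • s)) = _
    rw [← hz', AddEquiv.symm_apply_apply]
    exact this
  · obtain ⟨w₀, hw₀⟩ := exists_glob (selfModel A G.U F (X := X))
    let z := (e (ModuleCat.of A A)).symm φ
    let f : ModuleCat.of A A ⟶ ModuleCat.of A K := ModuleCat.ofHom (Algebra.linearMap A K)
    refine ⟨w₀ z, fun {X' g q} H hzero => hφ ?_⟩
    let _ : X'.Over (Spec (CommRingCat.of K)) := ⟨q⟩
    have := QCohMod.isQCoh_pullback_obj g F
    obtain ⟨w, hw⟩ := exists_glob (bcModel (A := A) (A' := K) H F G)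
    let z' : Z0 G F (ModuleCat.of A K) :=
      ⟨f.hom.lTensor _ z.1, FlatCxBase.lTensor_mem_ker (cxA A G.U F) _ f z⟩
    have key : ∀ (W : X.Opens) (v : secA A F W ⊗[A] A),
        bcSec (A := A) (A' := K) H F W ((Algebra.linearMap A K).lTensor _ v) =
          PicAux.pullSec g F (show Γ(F, W) from TensorProduct.rid A (secA A F W) v) := by
      intro W v
      induction v using TensorProduct.induction_on with
      | zero =>
        simp only [map_zero]
        exact (map_zero (pullSecHom g F W)).symm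
      | tmul s a =>
        rw [LinearMap.lTensor_tmul, bcSec_tmul, TensorProduct.rid_tmul, Algebra.linearMap_apply,
          ← app_toSec (A := A) (A' := K) H]
        exact (PicAux.pullSec_smul g F _ _).symm
      | add p q hp hq =>
        simp only [map_add, hp, hq]
        exact (map_add (pullSecHom g F W) _ _).symm
    have hz' : w z' = 0 := by
      refine (PicAux.res_ext (fun x : Fin (0 + 1) → G.ι => g ⁻¹ᵁ tupOpen G.U x) (fun _ => le_top)
        ?_ fun x => ?_)
      · intro p _
        obtain ⟨i, hi⟩ := Opens.mem_iSup.1 (G.hcov.ge (Opens.mem_top (g p)))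
        refine Opens.mem_iSup.2 ⟨fun _ => i, ?_⟩
        show g p ∈ tupOpen G.U fun _ => i
        rw [tupOpen, inter_one]
        exact hi
      · change QCohMod.res _ le_top (w z') = QCohMod.res _ le_top 0
        rw [hw, map_zero]
        change bcSec (A := A) (A' := K) H F _ _ = 0
        have e1 : (LinearMap.proj (R := A) (φ := fun x => secA A F (tupOpen G.U x)) x).rTensor K z'.1
            = (Algebra.linearMap A K).lTensor _
              ((LinearMap.proj (R := A) (φ := fun x => secA A F (tupOpen G.U x)) x).rTensor A z.1) := by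
          change LinearMap.rTensor K _ (LinearMap.lTensor _ (Algebra.linearMap A K) z.1) = _
          rw [← LinearMap.comp_apply, LinearMap.rTensor_comp_lTensor,
            ← LinearMap.lTensor_comp_rTensor, LinearMap.comp_apply]
          rfl
        rw [e1, key]
        have e2 := congrArg (PicAux.pullSec g F) (hw₀ z x)
        refine e2.symm.trans ?_
        refine (PicAux.res_pullSec g F le_top (w₀ z)).symm.trans ?_
        rw [hzero]
        exact PicAux.res_zero _
    have : e (ModuleCat.of A K) z' = f.hom ∘ₗ e (ModuleCat.of A A) z := he f z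
    rw [AddEquiv.map_eq_zero_iff] at hz'
    rw [hz', map_zero] at this
    rw [AddEquiv.apply_symm_apply] at this
    exact this.symm
  · let K := C ⧸ IsLocalRing.maximalIdeal C
    let _ : X'.Over (Spec (CommRingCat.of C)) := ⟨q⟩
    have := QCohMod.isQCoh_pullback_obj g F
    obtain ⟨s, hs⟩ := PicAux.nonempty_iso_structure_iff.1 htriv
    obtain ⟨w, hw⟩ := exists_glob (bcModel (A := A) (A' := C) H F G)
    let f : ModuleCat.of A C ⟶ ModuleCat.of A K :=
      ModuleCat.ofHom (Ideal.Quotient.mkₐ A (IsLocalRing.maximalIdeal C)).toLinearMap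
    refine ⟨e (ModuleCat.of A C) (w.symm s), fun hzero => ?_⟩
    have h0 := he f (w.symm s)
    rw [show f.hom ∘ₗ e (ModuleCat.of A C) (w.symm s) = 0 from hzero, AddEquiv.map_eq_zero_iff,
      Subtype.ext_iff] at h0
    change f.hom.lTensor _ (w.symm s).1 = 0 at h0
    let m : Submodule A C := (IsLocalRing.maximalIdeal C).restrictScalars A
    have hex : Function.Exact m.subtype f.hom := fun c => by
      constructor
      · intro hc
        exact ⟨⟨c, Ideal.Quotient.eq_zero_iff_mem.1 hc⟩, rfl⟩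
      · rintro ⟨c, rfl⟩
        exact Ideal.Quotient.eq_zero_iff_mem.2 c.2
    obtain ⟨p₀⟩ := ‹Nonempty X'›
    obtain ⟨i, hi⟩ := Opens.mem_iSup.1 (G.hcov.ge (Opens.mem_top (g p₀)))
    let x : Fin (0 + 1) → G.ι := fun _ => i
    have hx : p₀ ∈ g ⁻¹ᵁ tupOpen G.U x := by
      show g p₀ ∈ tupOpen G.U fun _ => i
      rw [tupOpen, inter_one]
      exact hi
    let v := (LinearMap.proj (R := A) (φ := fun x => secA A F (tupOpen G.U x)) x).rTensor C
      (w.symm s).1
    have hv : f.hom.lTensor _ v = 0 := by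
      show f.hom.lTensor _ (LinearMap.rTensor C _ (w.symm s).1) = 0
      rw [← LinearMap.comp_apply, LinearMap.lTensor_comp_rTensor,
        ← LinearMap.rTensor_comp_lTensor, LinearMap.comp_apply, h0, map_zero]
    obtain ⟨v', hv'⟩ := (lTensor_exact (secA A F (tupOpen G.U x)) hex
      Ideal.Quotient.mk_surjective v).1 hv
    have hnil : ∀ v'' : secA A F (tupOpen G.U x) ⊗[A] m, ∃ r : Γ(X', g ⁻¹ᵁ tupOpen G.U x),
        IsNilpotent r ∧ bcSec (A := A) (A' := C) H F _ (m.subtype.lTensor _ v'') =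
          r • PicAux.res _ le_top s := by
      intro v''
      induction v'' using TensorProduct.induction_on with
      | zero => exact ⟨0, IsNilpotent.zero, by rw [map_zero, map_zero, zero_smul]⟩
      | tmul t c =>
        obtain ⟨r, hr⟩ := hs.exists_coeff (le_top : g ⁻¹ᵁ tupOpen G.U x ≤ ⊤)
          (PicAux.pullSec g F (show Γ(F, tupOpen G.U x) from t))
        refine ⟨toSec C (g ⁻¹ᵁ tupOpen G.U x) c.1 * r, ?_, ?_⟩
        · obtain ⟨N, hN⟩ := (IsLocalRing.jacobson_eq_maximalIdeal (⊥ : Ideal C) bot_ne_top) ▸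
            (IsArtinianRing.isNilpotent_jacobson_bot (R := C))
          have hc : IsNilpotent c.1 := ⟨N, by
            have := Ideal.pow_mem_pow (show c.1 ∈ IsLocalRing.maximalIdeal C from c.2) N
            rwa [hN] at this⟩
          exact Commute.isNilpotent_mul_right (Commute.all _ _) (hc.map _)
        · rw [LinearMap.lTensor_tmul, bcSec_tmul, mul_smul, ← hr]
          rfl
      | add a b ha hb =>
        obtain ⟨r₁, hr₁, e₁⟩ := ha
        obtain ⟨r₂, hr₂, e₂⟩ := hb
        exact ⟨r₁ + r₂, Commute.isNilpotent_add (Commute.all _ _) hr₁ hr₂,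
          by rw [map_add, map_add, e₁, e₂, add_smul]⟩
    obtain ⟨r, hr, hrs⟩ := hnil v'
    have h1 : r = 1 := by
      refine hs.smul_inj (le_top : g ⁻¹ᵁ tupOpen G.U x ≤ ⊤) ?_
      rw [← hrs, hv', one_smul]
      exact ((hw (w.symm s) x).symm).trans (congrArg _ (w.apply_symm_apply s))
    have : Subsingleton Γ(X', g ⁻¹ᵁ tupOpen G.U x) := by
      obtain ⟨N, hN⟩ := hr
      rw [h1, one_pow] at hN
      exact subsingleton_of_zero_eq_one hN.symm
    have h2 := (X'.toRingedSpace.mem_basicOpen (1 : Γ(X', g ⁻¹ᵁ tupOpen G.U x)) p₀ hx).2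
      (by rw [map_one]; exact isUnit_one)
    rw [Subsingleton.elim (1 : Γ(X', g ⁻¹ᵁ tupOpen G.U x)) 0] at h2
    exact (X'.basicOpen_zero _).le h2

end Groth.Abvar.Seesaw
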