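import Groth.Agent.Abvar.Seesaw.GeomInt
import Groth.Agent.Abvar.Seesaw.Variety
import Groth.Agent.Abvar.PicCalc
import Groth.Agent.ThetaRep.Locus
import Groth.Agent.AlgGrp1.ClosedFunctor

/-!
# The seesaw subscheme

For a proper flat morphism with geometrically integral fibres over a locally Noetherian scheme and
an invertible module, the base changes on which the module comes from the base are those factoring
through a closed subscheme.
-/

universe u

open CategoryTheory Limits AlgebraicGeometry TopologicalSpace Opposite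
open Groth.PicAux (Gen)

namespace Groth.Abvar.Seesaw

open PicCalc

variable {X S : Scheme.{u}} (f : X ⟶ S) (c : PicLoc.PicSet X)

/-- The class is trivial on the base change along `u`. -/
def TrivOn {T : Scheme.{u}} (u : T ⟶ S) : Prop := pull (pullback.fst f u) c = 1

/-- The class is trivial on the base change along `u`, locally on `T`. -/
def LocTrivOn {T : Scheme.{u}} (u : T ⟶ S) : Prop :=
  ∀ t : T, ∃ V : T.Opens, t ∈ V ∧ TrivOn f c (V.ι ≫ u)

variable {f c}

theorem trivOn_comp {T' T : Scheme.{u}} (g : T' ⟶ T) {u : T ⟶ S} (h : TrivOn f c u) :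
    TrivOn f c (g ≫ u) := by
  let m : pullback f (g ≫ u) ⟶ pullback f u :=
    pullback.lift (pullback.fst _ _) (pullback.snd _ _ ≫ g)
      (by rw [Category.assoc]; exact pullback.condition)
  unfold TrivOn at *
  rw [← show m ≫ pullback.fst f u = pullback.fst f (g ≫ u) from pullback.lift_fst _ _ _, pull_comp,
    h, map_one]

theorem locTrivOn_comp {T' T : Scheme.{u}} (g : T' ⟶ T) {u : T ⟶ S} (h : LocTrivOn f c u) :
    LocTrivOn f c (g ≫ u) := by
  intro t
  obtain ⟨V, hV, hV'⟩ := h (g t)
  refine ⟨g ⁻¹ᵁ V, hV, ?_⟩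
  rw [← Category.assoc, ← morphismRestrict_ι g V, Category.assoc]
  exact trivOn_comp _ hV'

theorem locTrivOn_of_cover {T : Scheme.{u}} {u : T ⟶ S} (𝒰 : Scheme.OpenCover.{u} T)
    (h : ∀ i, LocTrivOn f c (𝒰.f i ≫ u)) : LocTrivOn f c u := by
  intro t
  obtain ⟨i, y, rfl⟩ := 𝒰.exists_eq t
  obtain ⟨V, hV, hV'⟩ := h i y
  refine ⟨(V.ι ≫ 𝒰.f i).opensRange, ⟨⟨y, hV⟩, rfl⟩, ?_⟩
  rw [← Scheme.Hom.isoOpensRange_inv_comp (V.ι ≫ 𝒰.f i), Category.assoc, Category.assoc]
  exact trivOn_comp _ hV'

variable [IsProper f] [Flat f] [GeometricallyIntegral f] [IsLocallyNoetherian S]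

/-- Local triviality on the base means coming from the base. -/
theorem locTrivOn_iff {T : Scheme.{u}} (u : T ⟶ S) :
    LocTrivOn f c u ↔ ∃ d, pull (pullback.fst f u) c = pull (pullback.snd f u) d := by
  constructor
  · intro h
    have := locallyOfFinitePresentation_of_isNoetherian f
    have := geometricallyConnected_of_integral f
    obtain ⟨L, hL, e⟩ := PicGrp.exists_eq_cls (pull (pullback.fst f u) c)
    have hloc : ∀ t : T, ∃ V : T.Opens, t ∈ V ∧ ∃ s, Gen L (pullback.snd f u ⁻¹ᵁ V) s := by
      intro t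
      obtain ⟨V, hV, hV'⟩ := h t
      refine ⟨V, hV, (exists_gen_iff_trivial L _).2 ?_⟩
      rw [nonempty_iso_structure_iff (PicLoc.isInvertible_pullback _ hL), ← pull_cls _ hL,
        show cls hL = _ from e.symm, ← pull_comp]
      let m : ((pullback.snd f u ⁻¹ᵁ V : (pullback f u).Opens) : Scheme.{u}) ⟶
          pullback f (V.ι ≫ u) :=
        pullback.lift (Scheme.Opens.ι _ ≫ pullback.fst f u) (pullback.snd f u ∣_ V) (by
          rw [← Category.assoc (pullback.snd f u ∣_ V), morphismRestrict_ι, Category.assoc,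
            Category.assoc, pullback.condition])
      rw [← show m ≫ pullback.fst f (V.ι ≫ u) = _ from pullback.lift_fst _ _ _, pull_comp]
      exact (congrArg (pull m) hV').trans (map_one _)
    obtain ⟨N, hN, ⟨i⟩⟩ := exists_base_of_local (pullback.snd f u)
      (fun V => GrpschAbsch.H0General.app_bijective _ V) hloc
    refine ⟨cls hN, ?_⟩
    rw [e, pull_cls _ hN]
    exact (nonempty_iso_iff hL _).1 ⟨i.symm⟩
  · rintro ⟨d, hd⟩ t
    obtain ⟨M, hM, rfl⟩ := PicGrp.exists_eq_cls d
    obtain ⟨U, s, hU, hxU, hs⟩ := PicAux.exists_gen_cover hM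
    refine ⟨U t, hxU t, ?_⟩
    have e : pull (U t).ι (cls hM) = 1 := by
      rw [pull_cls _ hM]
      exact (nonempty_iso_structure_iff _).1 ((exists_gen_iff_trivial M (U t)).1 ⟨_, hs t⟩)
    let m : pullback f ((U t).ι ≫ u) ⟶ pullback f u :=
      pullback.lift (pullback.fst _ _) (pullback.snd _ _ ≫ (U t).ι)
        (by rw [Category.assoc]; exact pullback.condition)
    unfold TrivOn
    rw [← show m ≫ pullback.fst f u = pullback.fst f ((U t).ι ≫ u) from pullback.lift_fst _ _ _,
      pull_comp, hd, ← pull_comp,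
      show m ≫ pullback.snd f u = pullback.snd f ((U t).ι ≫ u) ≫ (U t).ι from pullback.lift_snd _ _ _,
      pull_comp]
    exact (congrArg _ e).trans (map_one _)

/-- Near each point of an affine open the trivial base changes are cut out by an ideal. -/
theorem exists_ideal_chart {V : S.Opens} (hV : IsAffineOpen V) (x : PrimeSpectrum Γ(S, V)) :
    ∃ (h : Γ(S, V)) (I : Ideal Γ(S, V)), h ∉ x.asIdeal ∧
      ∀ (C : CommRingCat.{u}) (ψ : Γ(S, V) ⟶ C), IsUnit (ψ h) →
        (TrivOn f c (Spec.map ψ ≫ hV.fromSpec) ↔ I ≤ RingHom.ker ψ.hom) := by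
  have := locallyOfFinitePresentation_of_isNoetherian f
  have := geometricallyConnected_of_integral f
  have : IsNoetherianRing Γ(S, V) := noetherian_of_affineOpen hV
  obtain ⟨E, hE, hc⟩ := PicGrp.exists_eq_cls (pull (pullback.fst f hV.fromSpec) c)
  let π : pullback f hV.fromSpec ⟶ Spec (CommRingCat.of Γ(S, V)) := pullback.snd f hV.fromSpec
  have sq : IsPullback (pullback.fst f hV.fromSpec) π f hV.fromSpec := IsPullback.of_hasPullback _ _
  have : IsProper π := MorphismProperty.of_isPullback sq ‹_›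
  have : Flat π := MorphismProperty.of_isPullback sq ‹_›
  have : LocallyOfFinitePresentation π := MorphismProperty.of_isPullback sq ‹_›
  have : GeometricallyIntegral π := MorphismProperty.of_isPullback sq ‹_›
  have := geometricallyConnected_of_integral π
  obtain ⟨h, I, hx, hI⟩ := Groth.ThetaRep.exists_ideal_near π hE (fun C _ _ W g q s => by
      have : IsProper q := MorphismProperty.of_isPullback s ‹_›
      have : Flat q := MorphismProperty.of_isPullback s ‹_›
      have : LocallyOfFinitePresentation q := MorphismProperty.of_isPullback s ‹_›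
      have : GeometricallyIntegral q := MorphismProperty.of_isPullback s ‹_›
      have := geometricallyConnected_of_integral q
      exact (GrpschAbsch.H0General.app_bijective q ⊤).comp
        (ConcreteCategory.bijective_of_isIso (Scheme.ΓSpecIso (CommRingCat.of C)).inv))
    (isClosed_fibTriv_of_integral π hE) x
  refine ⟨h, I, hx, fun C ψ hu => ?_⟩
  letI : Algebra Γ(S, V) C := ψ.hom.toAlgebra
  let g : pullback f (Spec.map ψ ≫ hV.fromSpec) ⟶ pullback f hV.fromSpec :=
    pullback.lift (pullback.fst _ _) (pullback.snd _ _ ≫ Spec.map ψ)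
      (by rw [Category.assoc]; exact pullback.condition)
  have hgf : g ≫ pullback.fst f hV.fromSpec = pullback.fst f (Spec.map ψ ≫ hV.fromSpec) :=
    pullback.lift_fst _ _ _
  have hg : IsPullback g (pullback.snd f (Spec.map ψ ≫ hV.fromSpec)) π (Spec.map ψ) :=
    IsPullback.of_right (by rw [hgf]; exact IsPullback.of_hasPullback f (Spec.map ψ ≫ hV.fromSpec))
      (pullback.lift_snd _ _ _) sq
  refine Iff.trans ?_ (hI C _ g _ hg hu)
  rw [Groth.ThetaRep.PullTriv, nonempty_iso_structure_iff (PicLoc.isInvertible_pullback g hE),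
    ← pull_cls g hE, show cls hE = _ from hc.symm, ← pull_comp, hgf]
  rfl

/-- On an affine open the locally trivial base changes are cut out by an ideal. -/
theorem exists_ideal_affine (U : S.affineOpens) :
    ∃ J : Ideal Γ(S, U), ∀ (C : CommRingCat.{u}) (φ : Γ(S, U) ⟶ C),
      LocTrivOn f c (Spec.map φ ≫ U.2.fromSpec) ↔ J ≤ RingHom.ker φ.hom := by
  choose h I hx hI using fun x => exists_ideal_chart (f := f) (c := c) U.2 x
  obtain ⟨s, hs⟩ := isCompact_univ.elim_finite_subcover
    (fun x => (PrimeSpectrum.basicOpen (h x) : Set (PrimeSpectrum Γ(S, U))))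
    (fun x => (PrimeSpectrum.basicOpen (h x)).2) fun x _ => Set.mem_iUnion.2 ⟨x, hx x⟩
  let J' := fun x => ((I x).map (algebraMap Γ(S, U) (Localization.Away (h x)))).comap
      (algebraMap Γ(S, U) (Localization.Away (h x)))
  have hloc : ∀ (x) (C : CommRingCat.{u}) (ψ : Γ(S, U) ⟶ C), IsUnit (ψ (h x)) →
      I x ≤ RingHom.ker ψ.hom → ∀ a ∈ J' x, ψ a = 0 := by
    intro x C ψ hu hle a ha
    let l : Localization.Away (h x) →+* C :=
      IsLocalization.Away.lift (g := ψ.hom) (h x) hu
    have hl : l.comp (algebraMap Γ(S, U) (Localization.Away (h x))) = ψ.hom :=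
      IsLocalization.Away.lift_comp (h x) hu
    have h2 : (I x).map (algebraMap Γ(S, U) (Localization.Away (h x))) ≤ RingHom.ker l := by
      rw [Ideal.map_le_iff_le_comap, RingHom.comap_ker, hl]
      exact hle
    exact (RingHom.congr_fun hl a).symm.trans (h2 ha)
  refine ⟨s.inf J', fun C φ => ⟨fun hP a ha => ?_, fun hJ => ?_⟩⟩
  · -- locally on `C` the image of `a` vanishes
    rw [RingHom.mem_ker]
    by_contra hne
    have hann : Ideal.torsionOf C C (φ a) ≠ ⊤ := fun e => hne (by
      have h1 : (1 : C) ∈ Ideal.torsionOf C C (φ a) := e ▸ trivial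
      rw [Ideal.mem_torsionOf_iff, one_smul] at h1
      exact h1)
    obtain ⟨m, hm, hle⟩ := Ideal.exists_le_maximal _ hann
    let p : PrimeSpectrum C := ⟨m, hm.isPrime⟩
    obtain ⟨x, hxs, hxp⟩ := Set.mem_iUnion₂.1 (hs (Set.mem_univ (p.comap φ.hom)))
    obtain ⟨V, hpV, hV⟩ := hP p
    have hopen : IsOpen ({q : PrimeSpectrum C | q ∈ V} ∩
        (PrimeSpectrum.basicOpen (φ (h x)) : Set (PrimeSpectrum C))) :=
      V.2.inter (PrimeSpectrum.basicOpen (φ (h x))).2
    obtain ⟨_, ⟨g, rfl⟩, hpg, hgle⟩ :=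
      PrimeSpectrum.isTopologicalBasis_basic_opens.exists_subset_of_mem_open
        (show p ∈ {q : PrimeSpectrum C | q ∈ V} ∩
          (PrimeSpectrum.basicOpen (φ (h x)) : Set (PrimeSpectrum C)) from ⟨hpV, hxp⟩) hopen
    let α : C ⟶ CommRingCat.of (Localization.Away g) :=
      CommRingCat.ofHom (algebraMap C (Localization.Away g))
    have hrange : ∀ q, Spec.map α q ∈ PrimeSpectrum.basicOpen g := fun q =>
      (PrimeSpectrum.localization_away_comap_range (Localization.Away g) g).le ⟨q, rfl⟩
    have hu : IsUnit ((φ ≫ α) (h x)) := by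
      obtain ⟨n, hn⟩ := (PrimeSpectrum.basicOpen_le_basicOpen_iff g (φ (h x))).1
        fun q hq => (hgle hq).2
      obtain ⟨r, hr⟩ := Ideal.mem_span_singleton'.1 hn
      show IsUnit (algebraMap C (Localization.Away g) (φ (h x)))
      refine isUnit_of_mul_isUnit_right (x := algebraMap C (Localization.Away g) r) ?_
      rw [← map_mul, hr, map_pow]
      exact (IsLocalization.Away.algebraMap_isUnit g).pow n
    have htriv : TrivOn f c (Spec.map (φ ≫ α) ≫ U.2.fromSpec) := by
      have hr : Set.range (Spec.map α) ⊆ Set.range V.ι := by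
        rw [Scheme.Opens.range_ι]
        rintro _ ⟨q, rfl⟩
        exact (hgle (hrange q)).1
      rw [Spec.map_comp, Category.assoc, ← IsOpenImmersion.lift_fac V.ι (Spec.map α) hr,
        Category.assoc]
      exact trivOn_comp _ hV
    have h0 : (φ ≫ α) a = 0 := hloc x _ _ hu ((hI x _ _ hu).1 htriv) a
      (SetLike.le_def.1 (Finset.inf_le (f := J') hxs) ha)
    obtain ⟨⟨_, n, rfl⟩, hn⟩ := (IsLocalization.map_eq_zero_iff (Submonoid.powers g)
      (Localization.Away g) (φ a)).1 h0
    exact hpg (hm.isPrime.mem_of_pow_mem n (hle ((Ideal.mem_torsionOf_iff _ _).2 hn)))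
  · intro p
    obtain ⟨x, hxs, hxp⟩ := Set.mem_iUnion₂.1 (hs (Set.mem_univ (PrimeSpectrum.comap φ.hom p)))
    let α : C ⟶ CommRingCat.of (Localization.Away (φ (h x))) :=
      CommRingCat.ofHom (algebraMap C (Localization.Away (φ (h x))))
    have hu : IsUnit ((φ ≫ α) (h x)) := IsLocalization.Away.algebraMap_isUnit (φ (h x))
    have hker : I x ≤ RingHom.ker (φ ≫ α).hom := by
      intro a ha
      -- a power of `h x` times `a` lies in `s.inf J'`
      have hy : ∀ y, ∃ n : ℕ, h x ^ n * a ∈ J' y := by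
        intro y
        let Q := Localization.Away (h y) ⧸ (I y).map (algebraMap Γ(S, U) (Localization.Away (h y)))
        let z : Q := algebraMap Γ(S, U) Q (h x)
        let ψ : Γ(S, U) ⟶ CommRingCat.of (Localization.Away z) :=
          CommRingCat.ofHom ((algebraMap Q (Localization.Away z)).comp (algebraMap Γ(S, U) Q))
        have huy : IsUnit (ψ (h y)) :=
          (((IsLocalization.Away.algebraMap_isUnit (h y)).map
            (Ideal.Quotient.mk _)).map (algebraMap Q (Localization.Away z)) :)
        have hky : I y ≤ RingHom.ker ψ.hom := fun b hb => by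
          show algebraMap Q _ (Ideal.Quotient.mk _ (algebraMap Γ(S, U) (Localization.Away (h y)) b)) = 0
          rw [Ideal.Quotient.eq_zero_iff_mem.2 (Ideal.mem_map_of_mem _ hb), map_zero]
        have hux : IsUnit (ψ (h x)) := IsLocalization.Away.algebraMap_isUnit z
        have h0 : ψ a = 0 := (hI x _ _ hux).1 ((hI y _ _ huy).2 hky) ha
        obtain ⟨⟨_, n, rfl⟩, hn⟩ := (IsLocalization.map_eq_zero_iff
          (Submonoid.powers z) (Localization.Away z) (algebraMap Γ(S, U) Q a)).1 h0
        refine ⟨n, Ideal.mem_comap.2 (Ideal.Quotient.eq_zero_iff_mem.1 ?_)⟩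
        show algebraMap Γ(S, U) Q (h x ^ n * a) = 0
        rw [map_mul, map_pow]
        exact hn
      choose n hn using hy
      have hmem : h x ^ s.sup n * a ∈ s.inf J' := by
        rw [Submodule.mem_finsetInf]
        intro y hys
        rw [← Nat.sub_add_cancel (Finset.le_sup (f := n) hys), pow_add, _root_.mul_assoc]
        exact Ideal.mul_mem_left _ _ (hn y)
      have h0 : φ.hom (h x ^ s.sup n * a) = 0 := hJ hmem
      rw [RingHom.mem_ker]
      refine (hu.pow (s.sup n)).mul_right_eq_zero.1 ?_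
      show (φ ≫ α).hom (h x) ^ s.sup n * (φ ≫ α).hom a = 0
      rw [← map_pow, ← map_mul]
      exact (congrArg α.hom h0).trans (map_zero _)
    have ht := (hI x _ _ hu).2 hker
    have : IsOpenImmersion (Spec.map α) :=
      inferInstanceAs (IsOpenImmersion (Spec.map (CommRingCat.ofHom (algebraMap C _))))
    refine ⟨(Spec.map α).opensRange,
      (PrimeSpectrum.localization_away_comap_range (Localization.Away (φ (h x))) (φ (h x))).ge hxp, ?_⟩
    rw [← Scheme.Hom.isoOpensRange_inv_comp (Spec.map α), Category.assoc,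
      ← Category.assoc (Spec.map α), ← Spec.map_comp]
    exact trivOn_comp _ ht

/-- The seesaw subscheme. -/
theorem exists_seesaw_subscheme :
    ∃ (Z : Scheme.{u}) (ι : Z ⟶ S), IsClosedImmersion ι ∧ ∀ {T : Scheme.{u}} (u : T ⟶ S),
      (∃ u' : T ⟶ Z, u' ≫ ι = u) ↔
        ∃ d, pull (pullback.fst f u) c = pull (pullback.snd f u) d := by
  obtain ⟨Z, ι, hι, hZ⟩ := Groth.AlgGrp1.exists_closed_of_affine_ideals
    (fun {T} (u : T ⟶ S) => LocTrivOn f c u) (fun g _ h => locTrivOn_comp g h)
    (fun _ 𝒰 h => locTrivOn_of_cover 𝒰 h) (exists_ideal_affine (f := f) (c := c))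
  exact ⟨Z, ι, hι, fun u => (hZ u).symm.trans (locTrivOn_iff u)⟩

end Groth.Abvar.Seesaw
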